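import Cfsg.Agent.ThreePrime82.Balance
import Cfsg.Agent.S2925
import Cfsg.Agent.LocalEven62.Basic
import Cfsg.Agent.Lib.Components.GenFitting
import Cfsg.Prelude.Def_TwoFusion

/-!
# Strongly closed elementary abelian subgroups next to Suzuki components
-/

set_option autoImplicit false
set_option linter.style.haveILetI false

namespace Cfsg.Agent.ThreePrime82

open Subgroup
open Cfsg.Agent.Suzuki Cfsg.Agent.KnownSimple

universe u

/-- The facts on a Sylow `2`-subgroup used for the components. -/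
structure SylData (K : Type*) [Group K] : Prop where
  noncomm : ∀ P : Sylow 2 K, ¬ IsMulCommutative ↥(P : Subgroup K)
  central : ∀ (P : Sylow 2 K) (g : K), g ∈ (P : Subgroup K) → g * g = 1 →
    ∀ h ∈ (P : Subgroup K), h * g = g * h
  trans : ∀ (P : Sylow 2 K) (g h : K), g ∈ (P : Subgroup K) → h ∈ (P : Subgroup K) → g ≠ 1 →
    h ≠ 1 → g * g = 1 → h * h = 1 →
    ∃ t ∈ normalizer ((P : Subgroup K) : Set K), t * g * t⁻¹ = h
  other : ∀ (P : Sylow 2 K) (g : K), g ∈ (P : Subgroup K) → g ≠ 1 → g * g = 1 →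
    ∃ h ∈ (P : Subgroup K), h * h = 1 ∧ h ≠ 1 ∧ h ≠ g
  torus : ∀ P : Sylow 2 K, ∃ t ∈ normalizer ((P : Subgroup K) : Set K), Odd (orderOf t) ∧
    ∀ g h : K, g ∈ (P : Subgroup K) → h ∈ (P : Subgroup K) → g ≠ 1 → h ≠ 1 →
      g * g = 1 → h * h = 1 → ∃ j : ℕ, t ^ j * g * (t ^ j)⁻¹ = h
  card : ∀ P : Sylow 2 K, ∃ f : ℕ, Odd f ∧ 3 ≤ f ∧
    Nat.card {g : K // g ∈ (P : Subgroup K) ∧ g * g = 1} = 2 ^ f

theorem SylData.congr {K K' : Type*} [Group K] [Group K'] [Finite K] [Finite K'] (h : SylData K)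
    (e : K ≃* K') : SylData K' := by
  have key : ∀ P : Sylow 2 K', ∃ P0 : Sylow 2 K,
      ∀ x, x ∈ (P0 : Subgroup K) ↔ e x ∈ (P : Subgroup K') := fun P =>
    ⟨P.comapOfInjective e.toMonoidHom e.injective fun x _ => ⟨e.symm x, e.apply_symm_apply x⟩,
      fun x => Iff.rfl⟩
  have hsym : ∀ (P : Sylow 2 K') (P0 : Sylow 2 K),
      (∀ x, x ∈ (P0 : Subgroup K) ↔ e x ∈ (P : Subgroup K')) → ∀ y, y ∈ (P : Subgroup K') →
        e.symm y ∈ (P0 : Subgroup K) := fun P P0 hP y hy =>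
    (hP _).2 (by rwa [e.apply_symm_apply])
  refine ⟨fun P hc => ?_, fun P g hg hg2 k hk => ?_, fun P g k hg hk hg1 hk1 hg2 hk2 => ?_,
    fun P g hg hg1 hg2 => ?_, fun P => ?_, fun P => ?_⟩
  · obtain ⟨P0, hP0⟩ := key P
    refine h.noncomm P0 ⟨⟨fun a b => Subtype.ext (e.injective ?_)⟩⟩
    have h1 := congrArg Subtype.val
      (hc.is_comm.comm ⟨e a, (hP0 _).1 a.2⟩ ⟨e b, (hP0 _).1 b.2⟩)
    simpa using h1
  · obtain ⟨P0, hP0⟩ := key P
    apply e.symm.injective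
    rw [map_mul, map_mul]
    exact h.central P0 _ (hsym P P0 hP0 g hg) (by rw [← map_mul, hg2, map_one]) _
      (hsym P P0 hP0 k hk)
  · obtain ⟨P0, hP0⟩ := key P
    obtain ⟨t, ht, htg⟩ := h.trans P0 (e.symm g) (e.symm k) (hsym P P0 hP0 g hg)
      (hsym P P0 hP0 k hk) (by simpa using hg1) (by simpa using hk1)
      (by rw [← map_mul, hg2, map_one]) (by rw [← map_mul, hk2, map_one])
    refine ⟨e t, mem_normalizer_iff.2 fun x => ?_, ?_⟩
    · have h1 := mem_normalizer_iff.1 ht (e.symm x)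
      rw [hP0, hP0, e.apply_symm_apply] at h1
      rw [h1]
      simp
    · rw [show g = e (e.symm g) from (e.apply_symm_apply g).symm, ← map_inv, ← map_mul, ← map_mul,
        htg, e.apply_symm_apply]
  · obtain ⟨P0, hP0⟩ := key P
    obtain ⟨k, hk, hk2, hk1, hkg⟩ := h.other P0 (e.symm g) (hsym P P0 hP0 g hg)
      (by simpa using hg1) (by rw [← map_mul, hg2, map_one])
    exact ⟨e k, (hP0 k).1 hk, by rw [← map_mul, hk2, map_one], by simpa using hk1,
      fun hh => hkg (by rw [← hh, e.symm_apply_apply])⟩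
  · obtain ⟨P0, hP0⟩ := key P
    obtain ⟨t, ht, hto, htj⟩ := h.torus P0
    refine ⟨e t, mem_normalizer_iff.2 fun x => ?_, by rw [MulEquiv.orderOf_eq]; exact hto,
      fun g k hg hk hg1 hk1 hg2 hk2 => ?_⟩
    · have h1 := mem_normalizer_iff.1 ht (e.symm x)
      rw [hP0, hP0, e.apply_symm_apply] at h1
      rw [h1]
      simp
    · obtain ⟨j, hj⟩ := htj (e.symm g) (e.symm k) (hsym P P0 hP0 g hg) (hsym P P0 hP0 k hk)
        (by simpa using hg1) (by simpa using hk1) (by rw [← map_mul, hg2, map_one])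
        (by rw [← map_mul, hk2, map_one])
      refine ⟨j, ?_⟩
      rw [show g = e (e.symm g) from (e.apply_symm_apply g).symm, ← map_pow, ← map_inv, ← map_mul,
        ← map_mul, hj, e.apply_symm_apply]
  · obtain ⟨P0, hP0⟩ := key P
    obtain ⟨f, hf, hf3, hcard⟩ := h.card P0
    refine ⟨f, hf, hf3, hcard ▸ (Nat.card_congr (e.toEquiv.subtypeEquiv fun x => ?_)).symm⟩
    refine and_congr (hP0 x) ?_
    show x * x = 1 ↔ e x * e x = 1
    rw [← map_mul, MulEquiv.map_eq_one_iff]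

section Sz

variable {F : Type*} [Field F] [Fintype F] {m : ℕ} (hF : Fintype.card F = 2 ^ (2 * m + 1))
include hF

theorem U_involution {a b : F} (h : U hF a b * U hF a b = 1) : a = 0 := by
  rw [OutSz.U_sq, ← U_zero hF] at h
  rcases mul_eq_zero.1 (U_inj hF h).2 with e | e
  · exact sig_eq_zero.1 e
  · exact e

theorem sylData_sz (hm : 1 ≤ m) : SylData (Cfsg.Sz F m) := by
  classical
  haveI : Fact (Nat.Prime 2) := ⟨Nat.prime_two⟩
  have key : ∀ P : Sylow 2 (Cfsg.Sz F m), ∃ h : Cfsg.Sz F m,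
      (∀ a b, h * U hF a b * h⁻¹ ∈ (P : Subgroup (Cfsg.Sz F m))) ∧
      ∀ g ∈ (P : Subgroup (Cfsg.Sz F m)), ∃ a b, g = h * U hF a b * h⁻¹ := by
    intro P
    obtain ⟨h, hh⟩ := SzFacts.sylow_eq_map hF hm P
    exact ⟨h, fun a b => hh ▸ (SzFacts.mem_map_conj_USub hF).2 ⟨a, b, rfl⟩,
      fun g hg => (SzFacts.mem_map_conj_USub hF).1 (hh ▸ hg)⟩
  obtain ⟨r, hr0, hr1⟩ := exists_ne_zero_one hF hm
  refine ⟨fun P hc => ?_, fun P g hg hg2 k hk => ?_, fun P g k hg hk hg1 hk1 hg2 hk2 => ?_,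
    fun P g hg hg1 hg2 => ?_, fun P => ?_, fun P => ?_⟩
  · obtain ⟨h, hin, -⟩ := key P
    have h1 := congrArg Subtype.val (hc.is_comm.comm ⟨_, hin 1 0⟩ ⟨_, hin r 0⟩)
    simp only [Subgroup.coe_mul] at h1
    have h2 : U hF 1 0 * U hF r 0 = U hF r 0 * U hF 1 0 := by
      apply mul_left_cancel (a := h)
      apply mul_right_cancel (b := h⁻¹)
      calc h * (U hF 1 0 * U hF r 0) * h⁻¹ = h * U hF 1 0 * h⁻¹ * (h * U hF r 0 * h⁻¹) := by group
        _ = h * U hF r 0 * h⁻¹ * (h * U hF 1 0 * h⁻¹) := h1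
        _ = _ := by group
    rw [U_mul, U_mul] at h2
    have h3 := (U_inj hF h2).2
    simp only [Suzuki.sig_one, one_mul, zero_add, mul_one] at h3
    rcases eq_zero_or_one_of_sig_eq hF h3.symm with e | e
    · exact hr0 e
    · exact hr1 e
  · obtain ⟨h, -, hout⟩ := key P
    obtain ⟨a, b, rfl⟩ := hout g hg
    obtain ⟨c, d, rfl⟩ := hout k hk
    have ha : a = 0 := U_involution hF (by
      have h2 : h * (U hF a b * U hF a b) * h⁻¹ = 1 := by rw [← hg2]; group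
      rwa [conj_eq_one_iff] at h2)
    subst ha
    calc h * U hF c d * h⁻¹ * (h * U hF 0 b * h⁻¹) = h * (U hF c d * U hF 0 b) * h⁻¹ := by group
      _ = h * (U hF 0 b * U hF c d) * h⁻¹ := by
          congr 2
          rw [U_mul, U_mul, sig_zero]
          congr 1
          · ring
          · ring
      _ = _ := by group
  · obtain ⟨h, hin, hout⟩ := key P
    obtain ⟨a, b, rfl⟩ := hout g hg
    obtain ⟨c, d, rfl⟩ := hout k hk
    have ha : a = 0 := U_involution hF (by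
      have h2 : h * (U hF a b * U hF a b) * h⁻¹ = 1 := by rw [← hg2]; group
      rwa [conj_eq_one_iff] at h2)
    have hc : c = 0 := U_involution hF (by
      have h2 : h * (U hF c d * U hF c d) * h⁻¹ = 1 := by rw [← hk2]; group
      rwa [conj_eq_one_iff] at h2)
    subst ha hc
    have hb : b ≠ 0 := fun e => hg1 (by rw [e, U_zero, mul_one, mul_inv_cancel])
    have hd : d ≠ 0 := fun e => hk1 (by rw [e, U_zero, mul_one, mul_inv_cancel])
    -- `l ↦ l σ(l)` is a bijection of the multiplicative group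
    let φ : Fˣ →* Fˣ :=
      { toFun := fun l => Units.mk0 ((l : F) * sig m (l : F))
          (mul_ne_zero l.ne_zero (sig_ne_zero l.ne_zero))
        map_one' := Units.ext (by simp [Suzuki.sig_one])
        map_mul' := fun x y => Units.ext (by simp [Suzuki.sig_mul]; ring) }
    have hφ : Function.Surjective φ := Finite.surjective_of_injective
      ((injective_iff_map_eq_one φ).2 fun l hl => Units.ext (by
        have := congrArg Units.val hl
        exact eq_one_of_mul_sig hF l.ne_zero (by simpa [φ] using this)))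
    obtain ⟨l, hl⟩ := hφ (Units.mk0 (d * b⁻¹) (mul_ne_zero hd (inv_ne_zero hb)))
    have hl' : (l : F) * sig m (l : F) * b = d := by
      have := congrArg Units.val hl
      simp [φ] at this
      rw [this, mul_assoc, inv_mul_cancel₀ hb, mul_one]
    refine ⟨h * T hF l * h⁻¹, ?_, ?_⟩
    · refine LocalEven62.mem_normalizer_of_conj_mem fun x hx => ?_
      obtain ⟨a', b', rfl⟩ := hout x hx
      have e : h * T hF l * h⁻¹ * (h * U hF a' b' * h⁻¹) * (h * T hF l * h⁻¹)⁻¹ =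
          h * (T hF l * U hF a' b' * (T hF l)⁻¹) * h⁻¹ := by group
      rw [e, T_conj_U]
      exact hin _ _
    · have e : h * T hF l * h⁻¹ * (h * U hF 0 b * h⁻¹) * (h * T hF l * h⁻¹)⁻¹ =
          h * (T hF l * U hF 0 b * (T hF l)⁻¹) * h⁻¹ := by group
      rw [e, T_conj_U, mul_zero, hl']
  · obtain ⟨h, hin, hout⟩ := key P
    obtain ⟨a, b, rfl⟩ := hout g hg
    have hU : ∀ e : F, h * U hF 0 e * h⁻¹ * (h * U hF 0 e * h⁻¹) = 1 := fun e => by
      calc _ = h * (U hF 0 e * U hF 0 e) * h⁻¹ := by group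
        _ = 1 := by rw [U_mul, sig_zero, zero_mul, add_zero, add_zero, add_self hF, U_zero,
                        mul_one, mul_inv_cancel]
    have hinj : ∀ {e : F} {a b : F}, h * U hF 0 e * h⁻¹ = h * U hF a b * h⁻¹ → e = b :=
      fun he => (U_inj hF (mul_left_cancel (mul_right_cancel he))).2
    have hne : ∀ e : F, e ≠ 0 → h * U hF 0 e * h⁻¹ ≠ 1 := fun e he h1 =>
      he (hinj (h1.trans (by rw [U_zero, mul_one, mul_inv_cancel] :
        (1 : Cfsg.Sz F m) = h * U hF 0 0 * h⁻¹)))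
    by_cases hb1 : b = 1
    · exact ⟨_, hin 0 r, hU r, hne r hr0, fun he => hr1 ((hinj he).trans hb1)⟩
    · exact ⟨_, hin 0 1, hU 1, hne 1 one_ne_zero, fun he => hb1 (hinj he).symm⟩
  · obtain ⟨h, hin, hout⟩ := key P
    obtain ⟨l, hl⟩ := IsCyclic.exists_generator (α := Fˣ)
    have hpow : ∀ j : ℕ, (h * T hF l * h⁻¹) ^ j = h * T hF (l ^ j) * h⁻¹ := fun j => by
      rw [conj_pow]
      congr 2
      exact (map_pow (THom hF) l j).symm
    have hlo : Odd (orderOf l) := by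
      refine Odd.of_dvd_nat ?_ (orderOf_dvd_natCard l)
      rw [Nat.card_units, Nat.card_eq_fintype_card, hF]
      exact ⟨2 ^ (2 * m) - 1, by have := Nat.one_le_two_pow (n := 2 * m); rw [pow_succ]; omega⟩
    refine ⟨h * T hF l * h⁻¹, LocalEven62.mem_normalizer_of_conj_mem fun x hx => ?_, ?_,
      fun g k hg hk hg1 hk1 hg2 hk2 => ?_⟩
    · obtain ⟨a', b', rfl⟩ := hout x hx
      have e : h * T hF l * h⁻¹ * (h * U hF a' b' * h⁻¹) * (h * T hF l * h⁻¹)⁻¹ =
          h * (T hF l * U hF a' b' * (T hF l)⁻¹) * h⁻¹ := by group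
      rw [e, T_conj_U]
      exact hin _ _
    · refine Odd.of_dvd_nat hlo (orderOf_dvd_of_pow_eq_one ?_)
      rw [hpow, pow_orderOf_eq_one, T_one, mul_one, mul_inv_cancel]
    · obtain ⟨a, b, rfl⟩ := hout g hg
      obtain ⟨c, d, rfl⟩ := hout k hk
      have ha : a = 0 := U_involution hF (by
        have h2 : h * (U hF a b * U hF a b) * h⁻¹ = 1 := by rw [← hg2]; group
        rwa [conj_eq_one_iff] at h2)
      have hc : c = 0 := U_involution hF (by
        have h2 : h * (U hF c d * U hF c d) * h⁻¹ = 1 := by rw [← hk2]; group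
        rwa [conj_eq_one_iff] at h2)
      subst ha hc
      have hb : b ≠ 0 := fun e => hg1 (by rw [e, U_zero, mul_one, mul_inv_cancel])
      have hd : d ≠ 0 := fun e => hk1 (by rw [e, U_zero, mul_one, mul_inv_cancel])
      let φ : Fˣ →* Fˣ :=
        { toFun := fun l => Units.mk0 ((l : F) * sig m (l : F))
            (mul_ne_zero l.ne_zero (sig_ne_zero l.ne_zero))
          map_one' := Units.ext (by simp [Suzuki.sig_one])
          map_mul' := fun x y => Units.ext (by simp [Suzuki.sig_mul]; ring) }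
      have hφ : Function.Surjective φ := Finite.surjective_of_injective
        ((injective_iff_map_eq_one φ).2 fun l hl => Units.ext (by
          have := congrArg Units.val hl
          exact eq_one_of_mul_sig hF l.ne_zero (by simpa [φ] using this)))
      obtain ⟨u, hu⟩ := hφ (Units.mk0 (d * b⁻¹) (mul_ne_zero hd (inv_ne_zero hb)))
      have hu' : (u : F) * sig m (u : F) * b = d := by
        have := congrArg Units.val hu
        simp [φ] at this
        rw [this, mul_assoc, inv_mul_cancel₀ hb, mul_one]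
      obtain ⟨j, rfl⟩ := (mem_powers_iff_mem_zpowers).2 (hl u)
      refine ⟨j, ?_⟩
      have e : h * T hF (l ^ j) * h⁻¹ * (h * U hF 0 b * h⁻¹) * (h * T hF (l ^ j) * h⁻¹)⁻¹ =
          h * (T hF (l ^ j) * U hF 0 b * (T hF (l ^ j))⁻¹) * h⁻¹ := by group
      rw [hpow, e, T_conj_U, mul_zero, hu']
  · obtain ⟨h, hin, hout⟩ := key P
    refine ⟨2 * m + 1, ⟨m, rfl⟩, by omega, ?_⟩
    rw [← hF, ← Nat.card_eq_fintype_card]
    refine (Nat.card_congr (Equiv.ofBijective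
      (fun b : F => (⟨h * U hF 0 b * h⁻¹, hin 0 b, by
        calc _ = h * (U hF 0 b * U hF 0 b) * h⁻¹ := by group
          _ = 1 := by rw [U_mul, sig_zero, zero_mul, add_zero, add_zero, add_self hF, U_zero,
                          mul_one, mul_inv_cancel]⟩ :
        {g : Cfsg.Sz F m // g ∈ (P : Subgroup (Cfsg.Sz F m)) ∧ g * g = 1}))
      ⟨fun b b' hbb => (U_inj hF (mul_left_cancel (mul_right_cancel
        (congrArg Subtype.val hbb)))).2, ?_⟩)).symm
    rintro ⟨g, hg, hg2⟩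
    obtain ⟨a, b, rfl⟩ := hout g hg
    have ha : a = 0 := U_involution hF (by
      have h2 : h * (U hF a b * U hF a b) * h⁻¹ = 1 := by rw [← hg2]; group
      rwa [conj_eq_one_iff] at h2)
    subst ha
    exact ⟨b, rfl⟩

end Sz

theorem sylData_of_isoSuzuki {K : Type*} [Group K] [Finite K] (h : Cfsg.Lie.IsoSuzuki K) :
    SylData K := by
  obtain ⟨F, iF, iT, m, hm, hF, ⟨e⟩⟩ := h
  exact (sylData_sz hF hm).congr (e.trans (RankOne.SzBridge.szEquiv hF hm).symm).symm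

/-- A `2`-element normalizing a Sylow `2`-subgroup lies in it. -/
theorem mem_sylow_of_normalizes {Y : Type*} [Group Y] [Finite Y] (P : Sylow 2 Y) {t : Y}
    (ht : t ∈ normalizer ((P : Subgroup Y) : Set Y)) {k : ℕ} (hk : orderOf t = 2 ^ k) :
    t ∈ (P : Subgroup Y) := by
  haveI : Fact (Nat.Prime 2) := ⟨Nat.prime_two⟩
  have h : IsPGroup 2 ↥(zpowers t) := IsPGroup.of_card (n := k) (by rw [Nat.card_zpowers, hk])
  have h2 := P.is_maximal' (h.to_sup_of_normal_right' P.isPGroup' (zpowers_le.2 ht)) le_sup_right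
  exact h2 ▸ mem_sup_left (mem_zpowers t)

variable {X : Type u} [Group X] [Finite X]

theorem isNilpotent_of_comm {H : Type*} [inst : Group H] (h : ∀ a b : H, a * b = b * a) :
    Group.IsNilpotent H :=
  @CommGroup.isNilpotent H { inst with mul_comm := h }

/-- The centre of a component lies in `O₂` when `O(X) = 1`. -/
theorem map_center_component_le (hO : Cfsg.pPrimeCore 2 X = ⊥) {K : Subgroup X}
    (hK : Cfsg.IsComponent K) : (center ↥K).map K.subtype ≤ Cfsg.pCore 2 X := by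
  haveI : Fact (Nat.Prime 2) := ⟨Nat.prime_two⟩
  rw [← Components.fitting_eq_pCore_of_pPrimeCore_eq_bot hO]
  refine le_trans ?_ (Components.map_fitting_isSubnormal_le hK.1)
  exact Subgroup.map_mono (Fitting.le_fitting inferInstance
    (isNilpotent_of_comm fun a b => Subtype.ext (mem_center_iff.1 b.2 a)))

/-- The image in `L = K ⧸ Z(K)` of the Sylow subgroup of the component `K` inside `S`. -/
theorem exists_sylow_image (hO : Cfsg.pPrimeCore 2 X = ⊥) (S : Sylow 2 X) {K : Subgroup X}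
    (hK : Cfsg.IsComponent K) : ∃ P : Sylow 2 (↥K ⧸ center ↥K), ∀ x : ↥K,
      QuotientGroup.mk' (center ↥K) x ∈ (P : Subgroup (↥K ⧸ center ↥K)) ↔
        (x : X) ∈ (S : Subgroup X) := by
  haveI : Fact (Nat.Prime 2) := ⟨Nat.prime_two⟩
  have hQ := LocalEven62.IsSyl.inf_subnormal S hK.1
  set Q : Sylow 2 ↥K := hQ.toSylow with hQdef
  have hmemQ : ∀ x : ↥K, x ∈ (Q : Subgroup ↥K) ↔ (x : X) ∈ (S : Subgroup X) := fun x => by
    rw [hQdef, LocalEven62.IsSyl.coe_toSylow, mem_subgroupOf, mem_inf]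
    exact and_iff_left x.2
  refine ⟨Q.mapSurjective (QuotientGroup.mk'_surjective (center ↥K)), fun x => ?_⟩
  rw [Sylow.coe_mapSurjective, ← hmemQ]
  refine ⟨?_, fun h => ⟨x, h, rfl⟩⟩
  rintro ⟨x', hx', he⟩
  have h1 : x'⁻¹ * x ∈ center ↥K := QuotientGroup.eq.1 he
  have h2 : x'⁻¹ * x ∈ (Q : Subgroup ↥K) :=
    (hmemQ _).2 (Thompson.pCore_le_sylow S (map_center_component_le hO hK ⟨_, h1, rfl⟩))
  simpa using mul_mem hx' h2

/-- The action of an element `a` of a strongly closed elementary abelian subgroup on a Suzuki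
component. -/
theorem component_data (hO : Cfsg.pPrimeCore 2 X = ⊥) (S : Sylow 2 X) {A : Subgroup X}
    (hsc : Cfsg.IsStronglyClosed A (S : Subgroup X)) (hA : Cfsg.IsElementaryAbelian 2 A)
    {K : Subgroup X} (hK : Cfsg.IsComponent K) (hSz : Cfsg.Lie.IsoSuzuki (↥K ⧸ center ↥K))
    {P : Sylow 2 (↥K ⧸ center ↥K)}
    (hP : ∀ x : ↥K, QuotientGroup.mk' (center ↥K) x ∈ (P : Subgroup (↥K ⧸ center ↥K)) ↔
      (x : X) ∈ (S : Subgroup X))
    {a : X} (ha : a ∈ A) :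
    a ∈ normalizer (K : Set X) ∧
    ∃ k : ↥K, (k : X) ∈ (S : Subgroup X) ∧
      QuotientGroup.mk' (center ↥K) k * QuotientGroup.mk' (center ↥K) k = 1 ∧
      (∀ k' : ↥K, QuotientGroup.mk' (center ↥K) k' = QuotientGroup.mk' (center ↥K) k →
        (k' : X)⁻¹ * a ∈ centralizer (K : Set X)) ∧
      (∀ t : ↥K, QuotientGroup.mk' (center ↥K) t ∈
          normalizer ((P : Subgroup (↥K ⧸ center ↥K)) : Set _) → (t : X) * a * (t : X)⁻¹ ∈ A) ∧
      (QuotientGroup.mk' (center ↥K) k ≠ 1 → ∀ y ∈ (P : Subgroup (↥K ⧸ center ↥K)), y * y = 1 →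
        ∃ d : ↥K, (d : X) ∈ A ∧ QuotientGroup.mk' (center ↥K) d = y) := by
  classical
  haveI : Fact (Nat.Prime 2) := ⟨Nat.prime_two⟩
  haveI : IsSimpleGroup (↥K ⧸ center ↥K) := hK.2.2
  have hSyl := sylData_of_isoSuzuki hSz
  have hBal := balData_of_isoSuzuki hSz
  have hsq : ∀ x ∈ A, x * x = 1 := fun x hx => by rw [← pow_two]; exact hA.2 x hx
  -- `A` is normal in `S`
  have hAn : (A.subgroupOf (S : Subgroup X)).Normal := ⟨fun x hx g =>
    hsc.2 x hx (g : X) (mul_mem (mul_mem g.2 x.2) (inv_mem g.2))⟩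
  have haK : a ∈ normalizer (K : Set X) := by
    by_contra hn
    exact hSyl.noncomm Classical.ofNonempty (S2925.result K hK S A hsc.1 hAn hA.1
      (fun h => hn (h ha)) Classical.ofNonempty)
  -- the automorphism induced on `K ⧸ Z(K)`
  let σ : MulAut ↥K :=
    { toFun := fun x => ⟨a * x * a⁻¹, (mem_normalizer_iff.1 haK x).1 x.2⟩
      invFun := fun x => ⟨a⁻¹ * x * a, (mem_normalizer_iff.1 haK _).2 (by simp [mul_assoc])⟩
      left_inv := fun x => Subtype.ext (by simp [mul_assoc])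
      right_inv := fun x => Subtype.ext (by simp [mul_assoc])
      map_mul' := fun x y => Subtype.ext (by simp [mul_assoc]) }
  let α : MulAut (↥K ⧸ center ↥K) :=
    QuotientGroup.congr (center ↥K) (center ↥K) σ
      (Subgroup.characteristic_iff_map_eq.1 inferInstance σ)
  set π := QuotientGroup.mk' (center ↥K) with hπ
  have hαπ : ∀ x, α (π x) = π (σ x) := fun x => rfl
  have hα2 : α ^ 2 = 1 := by
    refine MulEquiv.ext fun y => ?_
    obtain ⟨x, rfl⟩ := QuotientGroup.mk'_surjective (center ↥K) y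
    show α (α (π x)) = π x
    rw [hαπ, hαπ]
    refine congrArg π (Subtype.ext ?_)
    show a * (a * (x : X) * a⁻¹) * a⁻¹ = x
    calc a * (a * (x : X) * a⁻¹) * a⁻¹ = a * a * x * (a * a)⁻¹ := by group
      _ = x := by rw [hsq a ha]; group
  obtain ⟨kb, hkb⟩ := hBal.inner α hα2
  obtain ⟨k, rfl⟩ := QuotientGroup.mk'_surjective (center ↥K) kb
  have hdiff : ∀ x : ↥K, π (σ x) = π k * π x * (π k)⁻¹ := fun x => by
    rw [← hαπ, hkb, MulAut.conj_apply]
  -- any representative of `π k` does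
  have hrep : ∀ k' : ↥K, π k' = π k → (k' : X)⁻¹ * a ∈ centralizer (K : Set X) := by
    intro k' hk'
    refine Components.mem_centralizer_of_commutator_mem_centralizer
      (Components.component_commutator_eq_self hK)
      (mul_mem (inv_mem (Subgroup.le_normalizer k'.2)) haK) fun l hl => ?_
    have h1 : π (k'⁻¹ * σ ⟨l, hl⟩ * k' * (⟨l, hl⟩ : ↥K)⁻¹) = 1 := by
      rw [map_mul, map_mul, map_mul, hdiff, map_inv, map_inv, hk']
      group
    have h2 : k'⁻¹ * σ ⟨l, hl⟩ * k' * (⟨l, hl⟩ : ↥K)⁻¹ ∈ center ↥K :=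
      (QuotientGroup.eq_one_iff _).1 h1
    have e : (k' : X)⁻¹ * a * l * ((k' : X)⁻¹ * a)⁻¹ * l⁻¹ =
        ((k'⁻¹ * σ ⟨l, hl⟩ * k' * (⟨l, hl⟩ : ↥K)⁻¹ : ↥K) : X) := by
      show _ = (k' : X)⁻¹ * (a * l * a⁻¹) * k' * l⁻¹
      group
    rw [e, mem_centralizer_iff]
    intro z hz
    exact congrArg Subtype.val (mem_center_iff.1 h2 ⟨z, hz⟩)
  have hk2 : π k * π k = 1 := by
    have h1 : MulAut.conj (π k * π k) = 1 := by rw [map_mul, ← hkb, ← pow_two, hα2]
    have h2 : π k * π k ∈ center (↥K ⧸ center ↥K) := by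
      rw [mem_center_iff]
      intro y
      have h3 := DFunLike.congr_fun h1 y
      rw [MulAut.conj_apply, MulAut.one_apply, mul_inv_eq_iff_eq_mul] at h3
      exact h3.symm
    rwa [hBal.center, mem_bot] at h2
  have hkP : π k ∈ (P : Subgroup (↥K ⧸ center ↥K)) := by
    rcases eq_or_ne (π k) 1 with e | e
    · rw [e]; exact one_mem _
    refine mem_sylow_of_normalizes P (LocalEven62.mem_normalizer_of_conj_mem ?_)
      (k := 1) (by rw [pow_one]; exact orderOf_eq_prime (by rw [pow_two, hk2]) e)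
    intro y hy
    obtain ⟨x, rfl⟩ := QuotientGroup.mk'_surjective (center ↥K) y
    rw [← hdiff]
    exact (hP _).2 (mul_mem (mul_mem (hsc.1 ha) ((hP x).1 hy)) (inv_mem (hsc.1 ha)))
  have hconj : ∀ t : ↥K, π t ∈ normalizer ((P : Subgroup (↥K ⧸ center ↥K)) : Set _) →
      (t : X) * a * (t : X)⁻¹ ∈ A ∧
        (t : X) * a * (t : X)⁻¹ = ((t * k * t⁻¹ : ↥K) : X) * ((k : X)⁻¹ * a) := by
    intro t ht
    have htk : π (t * k * t⁻¹) ∈ (P : Subgroup (↥K ⧸ center ↥K)) := by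
      rw [map_mul, map_mul, map_inv]
      exact (mem_normalizer_iff.1 ht _).1 hkP
    have hc := mem_centralizer_iff.1 (hrep k rfl) (t : X) t.2
    have e : (t : X) * a * (t : X)⁻¹ = ((t * k * t⁻¹ : ↥K) : X) * ((k : X)⁻¹ * a) := by
      calc (t : X) * a * (t : X)⁻¹ = (t : X) * k * ((k : X)⁻¹ * a) * (t : X)⁻¹ := by group
        _ = (t : X) * k * (t : X)⁻¹ * ((t : X) * ((k : X)⁻¹ * a)) * (t : X)⁻¹ := by group
        _ = (t : X) * k * (t : X)⁻¹ * (((k : X)⁻¹ * a) * t) * (t : X)⁻¹ := by rw [hc]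
        _ = _ := by simp [mul_assoc]
    refine ⟨hsc.2 a ha _ ?_, e⟩
    rw [e]
    exact mul_mem ((hP _).1 htk) (mul_mem (inv_mem ((hP _).1 hkP)) (hsc.1 ha))
  refine ⟨haK, k, (hP k).1 hkP, hk2, hrep, fun t ht => (hconj t ht).1, fun hk1 y hy hy2 => ?_⟩
  have hd : ∀ t : ↥K, π t ∈ normalizer ((P : Subgroup (↥K ⧸ center ↥K)) : Set _) →
      ∃ d : ↥K, (d : X) ∈ A ∧ π d = π t * π k * (π t)⁻¹ * (π k)⁻¹ := by
    intro t ht
    refine ⟨t * k * t⁻¹ * k⁻¹, ?_, by simp only [map_mul, map_inv]⟩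
    have e2 : ((t * k * t⁻¹ * k⁻¹ : ↥K) : X) = (t : X) * a * (t : X)⁻¹ * a⁻¹ := by
      rw [(hconj t ht).2]
      simp [mul_assoc]
    rw [e2]
    exact mul_mem (hconj t ht).1 (inv_mem ha)
  have hkinv : (π k)⁻¹ = π k := inv_eq_of_mul_eq_one_right hk2
  by_cases hy1 : y = 1
  · exact ⟨1, by simp, by rw [hy1, map_one]⟩
  have hprod : ∀ z ∈ (P : Subgroup (↥K ⧸ center ↥K)), z * z = 1 → z ≠ π k →
      ∃ d : ↥K, (d : X) ∈ A ∧ π d = z := by
    intro z hz hz2 hzk
    have hcomm := hSyl.central P _ hkP hk2 z hz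
    obtain ⟨t, ht, he⟩ := hSyl.trans P _ (z * π k) hkP (mul_mem hz hkP) hk1
      (fun e => hzk (by rw [mul_eq_one_iff_eq_inv, hkinv] at e; exact e)) hk2 (by
        calc z * π k * (z * π k) = z * (π k * z) * π k := by group
          _ = z * (z * π k) * π k := by rw [hcomm]
          _ = (z * z) * (π k * π k) := by group
          _ = 1 := by rw [hz2, hk2, one_mul])
    obtain ⟨t, rfl⟩ := QuotientGroup.mk'_surjective (center ↥K) t
    obtain ⟨d, hdA, hd'⟩ := hd t ht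
    exact ⟨d, hdA, by rw [hd', he, hkinv, mul_assoc, hk2, mul_one]⟩
  by_cases hyk : y = π k
  · obtain ⟨j, hjP, hj2, hj1, hjk⟩ := hSyl.other P _ hkP hk1 hk2
    have hcomm := hSyl.central P _ hkP hk2 j hjP
    obtain ⟨d₁, hd₁A, hd₁⟩ := hprod j hjP hj2 hjk
    obtain ⟨d₂, hd₂A, hd₂⟩ := hprod (j * π k) (mul_mem hjP hkP) (by
        calc j * π k * (j * π k) = j * (π k * j) * π k := by group
          _ = j * (j * π k) * π k := by rw [hcomm]
          _ = (j * j) * (π k * π k) := by group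
          _ = 1 := by rw [hj2, hk2, one_mul]) (fun e => hj1 (mul_eq_right.1 e))
    exact ⟨d₁ * d₂, by simpa using mul_mem hd₁A hd₂A,
      by rw [map_mul, hd₁, hd₂, ← mul_assoc, hj2, one_mul, hyk]⟩
  · exact hprod y hy hy2 hyk

/-- Every element of a strongly closed elementary abelian subgroup is, on a Suzuki component,
an element of the subgroup inside the component times an element centralizing the component. -/
theorem component_split (hO : Cfsg.pPrimeCore 2 X = ⊥) (S : Sylow 2 X) {A : Subgroup X}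
    (hsc : Cfsg.IsStronglyClosed A (S : Subgroup X)) (hA : Cfsg.IsElementaryAbelian 2 A)
    {K : Subgroup X} (hK : Cfsg.IsComponent K) (hSz : Cfsg.Lie.IsoSuzuki (↥K ⧸ center ↥K))
    {a : X} (ha : a ∈ A) :
    ∃ k ∈ A ⊓ K, k⁻¹ * a ∈ centralizer (K : Set X) := by
  obtain ⟨P, hP⟩ := exists_sylow_image hO S hK
  obtain ⟨-, k, hkS, hk2, hrep, -, hfull⟩ := component_data hO S hsc hA hK hSz hP ha
  by_cases hk1 : QuotientGroup.mk' (center ↥K) k = 1
  · exact ⟨1, one_mem _, by simpa using hrep 1 (by rw [map_one, hk1])⟩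
  obtain ⟨d, hdA, hd⟩ := hfull hk1 _ ((hP k).2 hkS) hk2
  exact ⟨d, ⟨hdA, d.2⟩, hrep d hd⟩

/-- The torus of a moved component and the part `V = [A, h]` of `A` inside it. -/
theorem component_torus (hO : Cfsg.pPrimeCore 2 X = ⊥) (S : Sylow 2 X) {A : Subgroup X}
    (hsc : Cfsg.IsStronglyClosed A (S : Subgroup X)) (hA : Cfsg.IsElementaryAbelian 2 A)
    {K : Subgroup X} (hK : Cfsg.IsComponent K) (hSz : Cfsg.Lie.IsoSuzuki (↥K ⧸ center ↥K))
    (hmov : ¬ A ≤ centralizer (K : Set X)) :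
    ∃ (h : X) (V : Subgroup X) (f : ℕ), h ∈ K ∧ Odd (orderOf h) ∧
      h ∈ normalizer (A : Set X) ∧ V ≤ A ⊓ K ∧ Odd f ∧ 3 ≤ f ∧ Nat.card ↥V = 2 ^ f ∧
      V ⊓ centralizer (K : Set X) = ⊥ ∧
      (∀ a ∈ A, ∃ v ∈ V, ∃ r ∈ A ⊓ centralizer (K : Set X), v * r = a) ∧
      h ∈ normalizer (V : Set X) ∧ (∀ r ∈ A ⊓ centralizer (K : Set X), h * r = r * h) ∧
      (∀ v ∈ V, ∀ w ∈ V, v ≠ 1 → w ≠ 1 → ∃ j : ℕ, h ^ j * v * (h ^ j)⁻¹ = w) ∧
      ∃ P : Sylow 2 (↥K ⧸ center ↥K),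
        (∀ x : ↥K, QuotientGroup.mk' (center ↥K) x ∈ (P : Subgroup (↥K ⧸ center ↥K)) ↔
          (x : X) ∈ (S : Subgroup X)) ∧
        ∀ y : ↥K ⧸ center ↥K, y ∈ (V.subgroupOf K).map (QuotientGroup.mk' (center ↥K)) ↔
          y ∈ (P : Subgroup (↥K ⧸ center ↥K)) ∧ y * y = 1 := by
  classical
  haveI : Fact (Nat.Prime 2) := ⟨Nat.prime_two⟩
  have hSyl := sylData_of_isoSuzuki hSz
  obtain ⟨P, hP⟩ := exists_sylow_image hO S hK
  set π := QuotientGroup.mk' (center ↥K) with hπ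
  have hsq : ∀ x ∈ A, x * x = 1 := fun x hx => by rw [← pow_two]; exact hA.2 x hx
  obtain ⟨a₀, ha₀, ha₀c⟩ := SetLike.not_le_iff_exists.1 hmov
  obtain ⟨-, k₀, -, -, hrep₀, -, hfull₀⟩ := component_data hO S hsc hA hK hSz hP ha₀
  have hk₀ : π k₀ ≠ 1 := fun e => ha₀c (by simpa using hrep₀ 1 (by rw [map_one, ← hπ, e]))
  obtain ⟨t, htN, hto, htj⟩ := hSyl.torus P
  obtain ⟨x₀, rfl⟩ := QuotientGroup.mk'_surjective (center ↥K) t
  obtain ⟨s, u, hu, hsu⟩ := Nat.exists_eq_two_pow_mul_odd (orderOf_pos x₀).ne'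
  set h₀ : ↥K := x₀ ^ 2 ^ s with hh₀
  have hh₀o : Odd (orderOf h₀) := Odd.of_dvd_nat hu (orderOf_dvd_of_pow_eq_one (by
    rw [hh₀, ← pow_mul, ← hsu]; exact pow_orderOf_eq_one x₀))
  have hh₀N : π h₀ ∈ normalizer ((P : Subgroup (↥K ⧸ center ↥K)) : Set _) := by
    rw [hh₀, map_pow]; exact pow_mem htN _
  obtain ⟨i, hi⟩ := exists_pow_eq_self_of_coprime
    ((Nat.coprime_two_left.2 hto).pow_left s : (2 ^ s).Coprime (orderOf (π x₀)))
  have htj' : ∀ g g' : ↥K ⧸ center ↥K, g ∈ (P : Subgroup (↥K ⧸ center ↥K)) →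
      g' ∈ (P : Subgroup (↥K ⧸ center ↥K)) → g ≠ 1 → g' ≠ 1 → g * g = 1 → g' * g' = 1 →
      ∃ j : ℕ, π (h₀ ^ j) * g * (π (h₀ ^ j))⁻¹ = g' := by
    intro g g' hg hg' hg1 hg'1 hg2 hg'2
    obtain ⟨j, hj⟩ := htj g g' hg hg' hg1 hg'1 hg2 hg'2
    refine ⟨i * j, ?_⟩
    have e : π (h₀ ^ (i * j)) = π x₀ ^ j := by
      rw [map_pow, hh₀, map_pow, pow_mul, hi]
    rw [e]
    exact hj
  set h : X := (h₀ : X) with hhdef
  have hho : Odd (orderOf h) := by rw [hhdef, Subgroup.orderOf_coe]; exact hh₀o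
  have hhA : h ∈ normalizer (A : Set X) := LocalEven62.mem_normalizer_of_conj_mem fun a ha => by
    obtain ⟨-, k, -, -, -, hconj, -⟩ := component_data hO S hsc hA hK hSz hP ha
    exact hconj h₀ hh₀N
  have hconjA : ∀ a ∈ A, h * a * h⁻¹ ∈ A := fun a ha => (mem_normalizer_iff.1 hhA a).1 ha
  have hcomm : ∀ x ∈ A, ∀ y ∈ A, x * y = y * x := fun x hx y hy =>
    congrArg Subtype.val (hA.1.is_comm.comm ⟨x, hx⟩ ⟨y, hy⟩)
  let ψ : ↥A →* ↥A := MonoidHom.mk' (fun a => ⟨h * (a : X) * h⁻¹ * (a : X)⁻¹,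
    mul_mem (hconjA a a.2) (inv_mem a.2)⟩) fun a b => Subtype.ext (by
      show h * ((a : X) * b) * h⁻¹ * ((a : X) * b)⁻¹ =
        h * (a : X) * h⁻¹ * (a : X)⁻¹ * (h * (b : X) * h⁻¹ * (b : X)⁻¹)
      have e := hcomm ((a : X)⁻¹) (inv_mem a.2) (h * (b : X) * h⁻¹ * (b : X)⁻¹)
        (mul_mem (hconjA b b.2) (inv_mem b.2))
      calc h * ((a : X) * b) * h⁻¹ * ((a : X) * b)⁻¹
          = h * (a : X) * h⁻¹ * ((h * (b : X) * h⁻¹ * (b : X)⁻¹) * (a : X)⁻¹) := by group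
        _ = h * (a : X) * h⁻¹ * ((a : X)⁻¹ * (h * (b : X) * h⁻¹ * (b : X)⁻¹)) := by rw [e]
        _ = _ := by group)
  have hker : ∀ a : ↥A, ψ a = 1 ↔ (a : X) ∈ centralizer (K : Set X) := by
    intro a
    constructor
    · intro he
      have h1 : h * (a : X) * h⁻¹ = a := mul_inv_eq_one.1 (congrArg Subtype.val he)
      obtain ⟨-, k, hkS, hk2, hrep, -, -⟩ := component_data hO S hsc hA hK hSz hP a.2
      by_cases hk1 : π k = 1
      · simpa using hrep 1 (by rw [map_one, ← hπ, hk1])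
      exfalso
      have hkP : π k ∈ (P : Subgroup (↥K ⧸ center ↥K)) := (hP k).2 hkS
      have h2 : h₀ * k * h₀⁻¹ = k := by
        apply Subtype.ext
        show h * (k : X) * h⁻¹ = k
        have hc := mem_centralizer_iff.1 (hrep k rfl) h h₀.2
        have e : (k : X) = a * ((k : X)⁻¹ * a)⁻¹ := by group
        calc h * (k : X) * h⁻¹ = h * (a * ((k : X)⁻¹ * a)⁻¹) * h⁻¹ := by rw [← e]
          _ = h * (a : X) * h⁻¹ * (h * ((k : X)⁻¹ * a) * h⁻¹)⁻¹ := by group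
          _ = a * ((k : X)⁻¹ * a)⁻¹ := by rw [h1, hc, mul_inv_cancel_right]
          _ = k := e.symm
      obtain ⟨j', hjP, hj2, hj1, hjk⟩ := hSyl.other P _ hkP hk1 hk2
      obtain ⟨j, hj⟩ := htj' _ j' hkP hjP hk1 hj1 hk2 hj2
      refine hjk (hj.symm.trans ?_)
      rw [← map_inv, ← map_mul, ← map_mul]
      refine congrArg π ?_
      have hcm : Commute h₀ k := mul_inv_eq_iff_eq_mul.1 h2
      rw [(hcm.pow_left j).eq, mul_inv_cancel_right]
    · intro hc
      refine Subtype.ext ?_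
      show h * (a : X) * h⁻¹ * (a : X)⁻¹ = 1
      rw [mem_centralizer_iff.1 hc h h₀.2]
      group
  have hψψ : ∀ a : ↥A, ψ (ψ a) = 1 → ψ a = 1 := by
    intro a he
    have h1 : h * (ψ a : X) * h⁻¹ = ψ a := mul_inv_eq_one.1 (congrArg Subtype.val he)
    have hn : ∀ n : ℕ, h ^ n * (a : X) * (h ^ n)⁻¹ = (ψ a : X) ^ n * a := by
      intro n
      induction n with
      | zero => simp
      | succ n ih =>
        calc h ^ (n + 1) * (a : X) * (h ^ (n + 1))⁻¹
            = h * (h ^ n * (a : X) * (h ^ n)⁻¹) * h⁻¹ := by rw [pow_succ']; group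
          _ = h * ((ψ a : X) ^ n * a) * h⁻¹ := by rw [ih]
          _ = (h * (ψ a : X) ^ n * h⁻¹) * (h * (a : X) * h⁻¹) := by group
          _ = (ψ a : X) ^ n * ((ψ a : X) * a) := by
              rw [← conj_pow, h1]
              congr 1
              show h * (a : X) * h⁻¹ = h * (a : X) * h⁻¹ * (a : X)⁻¹ * a
              group
          _ = (ψ a : X) ^ (n + 1) * a := by rw [pow_succ, mul_assoc]
    have h2 := hn (orderOf h)
    rw [pow_orderOf_eq_one, inv_one, one_mul, mul_one, right_eq_mul] at h2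
    have h3 : (ψ a : X) ^ 2 = 1 := by rw [pow_two]; exact hsq _ (ψ a).2
    obtain ⟨w, hw⟩ := hho
    rw [hw, pow_succ, pow_mul, h3, one_pow, one_mul] at h2
    exact Subtype.ext h2
  set V : Subgroup X := ψ.range.map A.subtype with hVdef
  have hVmem : ∀ {v : X}, v ∈ V → ∃ a : ↥A, (ψ a : X) = v := by
    rintro v ⟨_, ⟨a, rfl⟩, rfl⟩
    exact ⟨a, rfl⟩
  have hVA : ∀ {v : X}, v ∈ V → v ∈ A := fun hv => by
    obtain ⟨a, rfl⟩ := hVmem hv; exact (ψ a).2
  have hVK : V ≤ A ⊓ K := by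
    intro v hv
    refine Subgroup.mem_inf.2 ⟨hVA hv, ?_⟩
    obtain ⟨a, rfl⟩ := hVmem hv
    have haK := (component_data hO S hsc hA hK hSz hP a.2).1
    show h * (a : X) * h⁻¹ * (a : X)⁻¹ ∈ K
    rw [show h * (a : X) * h⁻¹ * (a : X)⁻¹ = h * ((a : X) * h⁻¹ * (a : X)⁻¹) by group]
    exact mul_mem h₀.2 ((mem_normalizer_iff.1 haK _).1 (inv_mem h₀.2))
  have hVC : ∀ v ∈ V, v ∈ centralizer (K : Set X) → v = 1 := by
    intro v hv hc
    obtain ⟨a, rfl⟩ := hVmem hv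
    rw [hψψ a ((hker (ψ a)).2 hc)]
    rfl
  have hbij : ∀ a : ↥A, ∃ v, ∃ hv : v ∈ V, ψ ⟨v, hVA hv⟩ = ψ a := by
    intro a
    let g : ↥ψ.range → ↥ψ.range := fun x => ⟨ψ x, ⟨_, rfl⟩⟩
    have hg : Function.Surjective g := Finite.surjective_of_injective fun x y hxy => by
      have h1 : ψ (x : ↥A) = ψ (y : ↥A) := congrArg Subtype.val hxy
      obtain ⟨b, hb⟩ := (mul_mem x.2 (inv_mem y.2) : (x : ↥A) * (y : ↥A)⁻¹ ∈ ψ.range)
      have h2 : ψ (ψ b) = 1 := by rw [hb, map_mul, map_inv, h1, mul_inv_cancel]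
      exact Subtype.ext (mul_inv_eq_one.1 (hb.symm.trans (hψψ b h2)))
    obtain ⟨x, hx⟩ := hg ⟨ψ a, ⟨a, rfl⟩⟩
    exact ⟨((x : ↥A) : X), ⟨x, x.2, rfl⟩, congrArg Subtype.val hx⟩
  have hdec : ∀ a ∈ A, ∃ v ∈ V, ∃ r ∈ A ⊓ centralizer (K : Set X), v * r = a := by
    intro a ha
    obtain ⟨v, hv, hva⟩ := hbij ⟨a, ha⟩
    refine ⟨v, hv, v⁻¹ * a, Subgroup.mem_inf.2 ⟨mul_mem (inv_mem (hVA hv)) ha, ?_⟩, by group⟩
    refine (hker ⟨v⁻¹ * a, mul_mem (inv_mem (hVA hv)) ha⟩).1 ?_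
    rw [show (⟨v⁻¹ * a, mul_mem (inv_mem (hVA hv)) ha⟩ : ↥A) = ⟨v, hVA hv⟩⁻¹ * ⟨a, ha⟩ from rfl,
      map_mul, map_inv, hva, inv_mul_cancel]
  have hπinj : ∀ x y : ↥K, (x : X) ∈ V → (y : X) ∈ V → π x = π y → x = y := by
    intro x y hx hy he
    have h1 : x⁻¹ * y ∈ center ↥K := QuotientGroup.eq.1 he
    have h2 : (x : X)⁻¹ * y = 1 := hVC _ (mul_mem (inv_mem hx) hy) (by
      rw [mem_centralizer_iff]
      intro z hz
      exact congrArg Subtype.val (mem_center_iff.1 h1 ⟨z, hz⟩))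
    exact Subtype.ext (inv_mul_eq_one.1 h2)
  have himg : ∀ y : ↥K ⧸ center ↥K, y ∈ (V.subgroupOf K).map π ↔
      y ∈ (P : Subgroup (↥K ⧸ center ↥K)) ∧ y * y = 1 := by
    intro y
    constructor
    · rintro ⟨x, hx, rfl⟩
      refine ⟨(hP x).2 (hsc.1 (hVA hx)), ?_⟩
      rw [← map_mul, show x * x = 1 from Subtype.ext (hsq _ (hVA hx)), map_one]
    · rintro ⟨hy, hy2⟩
      obtain ⟨d, hdA, rfl⟩ := hfull₀ hk₀ y hy hy2
      obtain ⟨v, hv, r, hr, hvr⟩ := hdec _ hdA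
      have hrK : r ∈ K := by
        rw [show r = v⁻¹ * (d : X) by rw [← hvr]; group]
        exact mul_mem (inv_mem (hVK hv).2) d.2
      refine ⟨⟨v, (hVK hv).2⟩, hv, ?_⟩
      rw [show d = ⟨v, (hVK hv).2⟩ * ⟨r, hrK⟩ from Subtype.ext hvr.symm, map_mul]
      have : π ⟨r, hrK⟩ = 1 := (QuotientGroup.eq_one_iff _).2 (mem_center_iff.2 fun z =>
        Subtype.ext (mem_centralizer_iff.1 hr.2 z z.2))
      rw [this, mul_one]
  obtain ⟨f, hf, hf3, hcard⟩ := hSyl.card P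
  have hcardV : Nat.card ↥V = 2 ^ f := by
    rw [← hcard]
    refine Nat.card_congr (Equiv.ofBijective (fun v : ↥V =>
      (⟨π ⟨v, (hVK v.2).2⟩, (himg _).1 ⟨_, v.2, rfl⟩⟩ :
        {g : ↥K ⧸ center ↥K // g ∈ (P : Subgroup (↥K ⧸ center ↥K)) ∧ g * g = 1}))
      ⟨fun x y he => Subtype.ext (congrArg (fun z : ↥K => (z : X))
        (hπinj ⟨x, (hVK x.2).2⟩ ⟨y, (hVK y.2).2⟩ x.2 y.2 (congrArg Subtype.val he))), ?_⟩)
    rintro ⟨y, hy⟩
    obtain ⟨x, hx, rfl⟩ := (himg y).2 hy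
    exact ⟨⟨x, hx⟩, rfl⟩
  have hhV : h ∈ normalizer (V : Set X) := LocalEven62.mem_normalizer_of_conj_mem fun v hv => by
    obtain ⟨a, rfl⟩ := hVmem hv
    refine ⟨ψ ⟨h * (a : X) * h⁻¹, hconjA a a.2⟩, ⟨_, rfl⟩, ?_⟩
    show h * (h * (a : X) * h⁻¹) * h⁻¹ * (h * (a : X) * h⁻¹)⁻¹ =
      h * (h * (a : X) * h⁻¹ * (a : X)⁻¹) * h⁻¹
    group
  refine ⟨h, V, f, h₀.2, hho, hhA, hVK, hf, hf3, hcardV, ?_, hdec, hhV, fun r hr => ?_, ?_,
    P, hP, himg⟩
  · rw [eq_bot_iff_forall]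
    exact fun v hv => hVC v hv.1 hv.2
  · exact mem_centralizer_iff.1 hr.2 h h₀.2
  · intro v hv w hw hv1 hw1
    let v₀ : ↥K := ⟨v, (hVK hv).2⟩
    let w₀ : ↥K := ⟨w, (hVK hw).2⟩
    have hne : ∀ x : ↥K, (x : X) ∈ V → (x : X) ≠ 1 → π x ≠ 1 := fun x hx hx1 e => hx1 (by
      rw [hπinj x 1 hx (one_mem _) (by rw [e, map_one])]; rfl)
    obtain ⟨j, hj⟩ := htj' (π v₀) (π w₀) ((himg _).1 ⟨v₀, hv, rfl⟩).1
      ((himg _).1 ⟨w₀, hw, rfl⟩).1 (hne v₀ hv hv1) (hne w₀ hw hw1)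
      ((himg _).1 ⟨v₀, hv, rfl⟩).2 ((himg _).1 ⟨w₀, hw, rfl⟩).2
    refine ⟨j, ?_⟩
    have hmem : ((h₀ ^ j * v₀ * (h₀ ^ j)⁻¹ : ↥K) : X) ∈ V :=
      (mem_normalizer_iff.1 (pow_mem hhV j) v).1 hv
    have := hπinj _ w₀ hmem hw (by rw [map_mul, map_mul, map_inv]; exact hj)
    exact congrArg (fun z : ↥K => (z : X)) this

/-- When `O(X) = 1` and the components are Suzuki, a strongly closed elementary abelian subgroup
lies in the product of the layer with its intersection with `O₂(X)`. -/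
theorem exists_layer_mul (hO : Cfsg.pPrimeCore 2 X = ⊥) (S : Sylow 2 X) {A : Subgroup X}
    (hsc : Cfsg.IsStronglyClosed A (S : Subgroup X)) (hA : Cfsg.IsElementaryAbelian 2 A)
    (hSz : ∀ K : Subgroup X, Cfsg.IsComponent K → Cfsg.Lie.IsoSuzuki (↥K ⧸ center ↥K))
    {a : X} (ha : a ∈ A) :
    ∃ l ∈ Cfsg.layer X ⊓ A, l⁻¹ * a ∈ Cfsg.pCore 2 X ⊓ A := by
  classical
  letI : Fintype (Subgroup X) := Fintype.ofFinite _
  haveI : Fact (Nat.Prime 2) := ⟨Nat.prime_two⟩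
  have hS : ∀ s ∈ (S : Subgroup X), s ∈ normalizer (A : Set X) := fun s hs =>
    LocalEven62.mem_normalizer_of_conj_mem fun x hx =>
      hsc.2 x hx s (mul_mem (mul_mem hs (hsc.1 hx)) (inv_mem hs))
  have hsq : ∀ x ∈ A, x * x = 1 := fun x hx => by rw [← pow_two]; exact hA.2 x hx
  have key : ∀ T : Finset (Subgroup X), (∀ K ∈ T, Cfsg.IsComponent K) →
      ∃ l ∈ Cfsg.layer X ⊓ A, ∀ K ∈ T, l⁻¹ * a ∈ centralizer (K : Set X) := by
    intro T
    induction T using Finset.induction_on with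
    | empty => exact fun _ => ⟨1, one_mem _, by simp⟩
    | @insert K T hKT ih =>
      intro hcomp
      obtain ⟨l, hl, hlT⟩ := ih fun K' hK' => hcomp K' (Finset.mem_insert_of_mem hK')
      have hK := hcomp K (Finset.mem_insert_self K T)
      obtain ⟨k, hk, hkc⟩ := component_split hO S hsc hA hK (hSz K hK)
        (mul_mem (inv_mem (Subgroup.mem_inf.1 hl).2) ha)
      refine ⟨l * k, mul_mem hl ⟨Components.component_le_layer hK hk.2, hk.1⟩, fun K' hK' => ?_⟩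
      have e : (l * k)⁻¹ * a = k⁻¹ * (l⁻¹ * a) := by group
      rw [e]
      rcases Finset.mem_insert.1 hK' with rfl | hK'T
      · exact hkc
      · exact mul_mem (inv_mem (Components.component_le_centralizer hK
          (hcomp K' hK') (fun h => hKT (h ▸ hK'T)) hk.2)) (hlT K' hK'T)
  obtain ⟨l, hl, hlc⟩ := key (Finset.univ.filter fun K : Subgroup X => Cfsg.IsComponent K)
    fun K hK => (Finset.mem_filter.1 hK).2
  refine ⟨l, hl, ?_, A.mul_mem (A.inv_mem (Subgroup.mem_inf.1 hl).2) ha⟩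
  set c := l⁻¹ * a with hc
  have hcA : c ∈ A := mul_mem (inv_mem (Subgroup.mem_inf.1 hl).2) ha
  have hclay : c ∈ centralizer (Cfsg.layer X : Set X) := by
    have : Cfsg.layer X ≤ centralizer ({c} : Set X) := by
      refine Components.layer_le_iff.2 fun K hK x hx => ?_
      rw [mem_centralizer_singleton_iff]
      exact (mem_centralizer_iff.1 (hlc K (Finset.mem_filter.2 ⟨Finset.mem_univ _, hK⟩)) x hx)
    rw [mem_centralizer_iff]
    intro x hx
    exact mem_centralizer_singleton_iff.1 (this hx)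
  -- the elements centralizing the layer and stabilizing `Q > Q ∩ A > 1`
  set Q := Cfsg.pCore 2 X with hQdef
  have hQS : Q ≤ (S : Subgroup X) := Thompson.pCore_le_sylow S
  have hQA : ∀ (g : X), ∀ q ∈ Q ⊓ A, g * q * g⁻¹ ∈ Q ⊓ A := fun g q hq =>
    have h1 : g * q * g⁻¹ ∈ Q := (inferInstance : Q.Normal).conj_mem _ hq.1 g
    ⟨h1, hsc.2 q hq.2 g (hQS h1)⟩
  let P : Subgroup X :=
    { carrier := {x | x ∈ centralizer (Cfsg.layer X : Set X) ∧
        (∀ q ∈ Q, x * q * x⁻¹ * q⁻¹ ∈ Q ⊓ A) ∧ ∀ q ∈ Q ⊓ A, x * q = q * x}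
      one_mem' := ⟨one_mem _, fun q _ => by simp, fun q _ => by simp⟩
      mul_mem' := by
        rintro x y ⟨hx1, hx2, hx3⟩ ⟨hy1, hy2, hy3⟩
        refine ⟨mul_mem hx1 hy1, fun q hq => ?_, fun q hq => by
          rw [mul_assoc, hy3 q hq, ← mul_assoc, hx3 q hq, mul_assoc]⟩
        have e : x * y * q * (x * y)⁻¹ * q⁻¹ =
            x * (y * q * y⁻¹ * q⁻¹) * x⁻¹ * (x * q * x⁻¹ * q⁻¹) := by group
        rw [e]
        exact mul_mem (hQA x _ (hy2 q hq)) (hx2 q hq)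
      inv_mem' := by
        rintro x ⟨hx1, hx2, hx3⟩
        refine ⟨inv_mem hx1, fun q hq => ?_, fun q hq => ?_⟩
        · have e : x⁻¹ * q * x⁻¹⁻¹ * q⁻¹ = x⁻¹ * (x * q * x⁻¹ * q⁻¹)⁻¹ * x⁻¹⁻¹ := by group
          rw [e]
          exact hQA x⁻¹ _ (inv_mem (hx2 q hq))
        · calc x⁻¹ * q = x⁻¹ * (q * x) * x⁻¹ := by group
            _ = x⁻¹ * (x * q) * x⁻¹ := by rw [hx3 q hq]
            _ = q * x⁻¹ := by group }
  haveI hPn : P.Normal := ⟨fun x hx g => by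
    obtain ⟨hx1, hx2, hx3⟩ := hx
    refine ⟨(inferInstance : (centralizer (Cfsg.layer X : Set X)).Normal).conj_mem _ hx1 g,
      fun q hq => ?_, fun q hq => ?_⟩
    · have hq' : g⁻¹ * q * g ∈ Q := by
        simpa using (inferInstance : Q.Normal).conj_mem _ hq g⁻¹
      have e : g * x * g⁻¹ * q * (g * x * g⁻¹)⁻¹ * q⁻¹ =
          g * (x * (g⁻¹ * q * g) * x⁻¹ * (g⁻¹ * q * g)⁻¹) * g⁻¹ := by group
      rw [e]
      exact hQA g _ (hx2 _ hq')
    · have hq' : g⁻¹ * q * g ∈ Q ⊓ A := by simpa using hQA g⁻¹ q hq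
      calc g * x * g⁻¹ * q = g * (x * (g⁻¹ * q * g)) * g⁻¹ := by group
        _ = g * ((g⁻¹ * q * g) * x) * g⁻¹ := by rw [hx3 _ hq']
        _ = q * (g * x * g⁻¹) := by group⟩
  have hcP : c ∈ P := by
    refine ⟨hclay, fun q hq => ⟨?_, ?_⟩, fun q hq => ?_⟩
    · exact Q.mul_mem ((inferInstance : Q.Normal).conj_mem q hq c) (Q.inv_mem hq)
    · have h1 : q * c⁻¹ * q⁻¹ ∈ A :=
        (mem_normalizer_iff.1 (hS q (hQS hq)) _).1 (inv_mem hcA)
      have e : c * q * c⁻¹ * q⁻¹ = c * (q * c⁻¹ * q⁻¹) := by group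
      rw [e]
      exact mul_mem hcA h1
    · exact congrArg Subtype.val (hA.1.is_comm.comm ⟨c, hcA⟩ ⟨q, hq.2⟩)
  have hP2 : ∀ x ∈ P, x * x ∈ Q := by
    rintro x ⟨hx1, hx2, hx3⟩
    have hcF : x * x ∈ centralizer (Cfsg.generalizedFittingSubgroup X : Set X) := by
      have h1 : Cfsg.generalizedFittingSubgroup X ≤ centralizer ({x * x} : Set X) := by
        refine sup_le (fun y hy => ?_) ?_
        · rw [mem_centralizer_singleton_iff]
          exact mem_centralizer_iff.1 (mul_mem hx1 hx1) y hy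
        · rw [Components.fitting_eq_pCore_of_pPrimeCore_eq_bot hO]
          intro q hq
          rw [mem_centralizer_singleton_iff]
          obtain ⟨d, hd⟩ : ∃ d, x * q * x⁻¹ * q⁻¹ = d := ⟨_, rfl⟩
          have hdQA : d ∈ Q ⊓ A := hd ▸ hx2 q hq
          have h2 : x * q * x⁻¹ = d * q := by rw [← hd]; group
          have h3 : x * d * x⁻¹ = d := by rw [hx3 d hdQA]; group
          have h4 : x * x * q * (x * x)⁻¹ = q := by
            calc x * x * q * (x * x)⁻¹ = x * (x * q * x⁻¹) * x⁻¹ := by group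
              _ = x * (d * q) * x⁻¹ := by rw [h2]
              _ = (x * d * x⁻¹) * (x * q * x⁻¹) := by group
              _ = q := by rw [h3, h2, ← mul_assoc, hsq d hdQA.2, one_mul]
          exact (mul_inv_eq_iff_eq_mul.1 h4).symm
      rw [mem_centralizer_iff]
      intro y hy
      exact mem_centralizer_singleton_iff.1 (h1 hy)
    -- the centre of `F*` is a normal nilpotent subgroup
    let Z : Subgroup X := Cfsg.generalizedFittingSubgroup X ⊓
      centralizer (Cfsg.generalizedFittingSubgroup X : Set X)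
    haveI : Group.IsNilpotent ↥Z :=
      isNilpotent_of_comm fun u v => Subtype.ext (mem_centralizer_iff.1 v.2.2 _ u.2.1)
    have hZn : Z.Normal := inferInstance
    rw [hQdef, ← Components.fitting_eq_pCore_of_pPrimeCore_eq_bot hO]
    exact Fitting.le_fitting hZn inferInstance
      ⟨Components.centralizer_generalizedFitting_le hcF, hcF⟩
  have hP : IsPGroup 2 ↥P := by
    intro x
    obtain ⟨j, hj⟩ := Thompson.isPGroup_pCore (p := 2) (G := X) ⟨_, hP2 x x.2⟩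
    refine ⟨j + 1, Subtype.ext ?_⟩
    rw [SubgroupClass.coe_pow, OneMemClass.coe_one, pow_succ', pow_mul, pow_two]
    simpa using congrArg Subtype.val hj
  exact Thompson.le_pCore (p := 2) hPn hP hcP

/-- Without components a strongly closed elementary abelian subgroup is normal. -/
theorem normal_of_layer_eq_bot (hO : Cfsg.pPrimeCore 2 X = ⊥) (S : Sylow 2 X) {A : Subgroup X}
    (hsc : Cfsg.IsStronglyClosed A (S : Subgroup X)) (hA : Cfsg.IsElementaryAbelian 2 A)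
    (hL : Cfsg.layer X = ⊥) : A ≤ Cfsg.pCore 2 X ∧ A.Normal := by
  haveI : Fact (Nat.Prime 2) := ⟨Nat.prime_two⟩
  have hle : A ≤ Cfsg.pCore 2 X := fun a ha => by
    obtain ⟨l, hl, hla⟩ := exists_layer_mul hO S hsc hA
      (fun K hK => absurd hK (Components.layer_eq_bot_iff.1 hL K)) ha
    have h1 : l ∈ (⊥ : Subgroup X) := hL ▸ hl.1
    rw [mem_bot] at h1
    simpa [h1] using hla.1
  exact ⟨hle, ⟨fun a ha g => hsc.2 a ha g
    (Thompson.pCore_le_sylow S ((inferInstance : (Cfsg.pCore 2 X).Normal).conj_mem _ (hle ha) g))⟩⟩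

end Cfsg.Agent.ThreePrime82
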