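import Cfsg.Agent.ThreePrime82.SzBalance
import Cfsg.Agent.Lib.Components.KBalance
import Cfsg.Agent.Lib.Components.Basic

/-!
# Balance in groups of order prime to three whose small simple groups are Suzuki groups
-/

set_option autoImplicit false
set_option linter.style.haveILetI false

namespace Cfsg.Agent.ThreePrime82

open Subgroup

universe u

/-- Simple groups of order prime to three and less than `n` are Suzuki groups. -/
def SzBelow (n : ℕ) : Prop :=
  ∀ (Q : Type u) [Group Q] [Finite Q] [IsSimpleGroup Q], (∃ a b : Q, a * b ≠ b * a) →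
    ¬ 3 ∣ Nat.card Q → Nat.card Q < n → Cfsg.Lie.IsoSuzuki Q

theorem SzBelow.mono {m n : ℕ} (h : SzBelow.{u} n) (hmn : m ≤ n) : SzBelow.{u} m :=
  fun Q _ _ _ hna h3 hlt => h Q hna h3 (hlt.trans_le hmn)

/-- The simple quotient of a component is a Suzuki group. -/
theorem component_isoSuzuki {n : ℕ} (h : SzBelow.{u} n) {X : Type u} [Group X] [Finite X]
    (h3 : ¬ 3 ∣ Nat.card X) (hn : Nat.card X < n) {K : Subgroup X} (hK : Cfsg.IsComponent K) :
    Cfsg.Lie.IsoSuzuki (↥K ⧸ center ↥K) := by
  haveI : IsSimpleGroup (↥K ⧸ center ↥K) := hK.2.2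
  have hdvd : Nat.card (↥K ⧸ center ↥K) ∣ Nat.card X :=
    (card_quotient_dvd_card _).trans (card_subgroup_dvd_card K)
  refine h _ ?_ (fun h' => h3 (h'.trans hdvd)) (lt_of_le_of_lt
    (Nat.le_of_dvd Nat.card_pos hdvd) hn)
  by_contra hc
  push Not at hc
  haveI hX : Group.IsSolvable (↥K ⧸ center ↥K) := Group.isSolvable_of_comm hc
  haveI : Group.IsSolvable (center ↥K) :=
    Group.isSolvable_of_comm fun a b => Subtype.ext (mem_center_iff.1 b.2 a)
  exact Components.component_not_isSolvable hK
    (Group.isSolvable_of_ker_le_range (center ↥K).subtype (QuotientGroup.mk' (center ↥K)) (by simp))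

/-- A group of order prime to three without central involutions is balanced, given that the
smaller simple groups are Suzuki groups. -/
theorem isBalanced {G : Type u} [Group G] [Finite G] (h : SzBelow.{u} (Nat.card G))
    (h3 : ¬ 3 ∣ Nat.card G) (hZ : ∀ x : G, orderOf x = 2 → x ∉ center G) : Cfsg.IsBalanced G := by
  haveI : Fact (Nat.Prime 2) := ⟨Nat.prime_two⟩
  refine Components.isBalanced_of_isKBalanced (Components.isKBalanced_of_components le_rfl
    fun x hx K hK => Components.isLocallyKBalanced_of_isLocallyBalanced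
      (isLocallyBalanced_of_isoSuzuki ?_))
  have hd : Nat.card (↥(Subgroup.centralizer ({x} : Set G)) ⧸
      pPrimeCore 2 ↥(Subgroup.centralizer ({x} : Set G))) ∣ Nat.card G :=
    (card_quotient_dvd_card _).trans (card_subgroup_dvd_card _)
  refine component_isoSuzuki h (fun h' => h3 (h'.trans hd)) ?_ hK
  refine lt_of_le_of_lt (Nat.le_of_dvd Nat.card_pos (card_quotient_dvd_card _)) ?_
  refine lt_of_le_of_ne (Nat.le_of_dvd Nat.card_pos (card_subgroup_dvd_card _)) fun e => hZ x hx ?_
  rw [mem_center_iff]
  intro g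
  exact mem_centralizer_singleton_iff.1 ((eq_top_of_card_eq _ e) ▸ mem_top g)

end Cfsg.Agent.ThreePrime82
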