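import Cfsg.Agent.ThreePrime82.KSec
import Cfsg.Agent.Lib.Transfer.Abelian

/-!
# The free case: moved components are simple and their Sylow subgroups centralize `A`
-/

set_option autoImplicit false
set_option linter.style.haveILetI false

namespace Cfsg.Agent.ThreePrime82

open Subgroup
open Cfsg.Agent.Suzuki Cfsg.Agent.KnownSimple
open Cfsg.Agent.ThreePrime72 (KHyp Moved FreeOn KSecStmt)

universe u

/-- Facts on squares in a Sylow `2`-subgroup. -/
structure SylSq (K : Type*) [Group K] : Prop where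
  sq_sq : ∀ (P : Sylow 2 K) (x : K), x ∈ (P : Subgroup K) → x * x * (x * x) = 1
  comm : ∀ (P : Sylow 2 K) (x y : K), x ∈ (P : Subgroup K) → y ∈ (P : Subgroup K) →
    x * y * x⁻¹ * y⁻¹ * (x * y * x⁻¹ * y⁻¹) = 1
  sq_inj : ∀ (P : Sylow 2 K) (x y : K), x ∈ (P : Subgroup K) → y ∈ (P : Subgroup K) →
    x * x = y * y → x⁻¹ * y * (x⁻¹ * y) = 1
  card : ∀ P : Sylow 2 K,
    Nat.card ↥(P : Subgroup K) = Nat.card {g : K // g ∈ (P : Subgroup K) ∧ g * g = 1} ^ 2

theorem SylSq.congr {K K' : Type*} [Group K] [Group K'] [Finite K] [Finite K'] (h : SylSq K)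
    (e : K ≃* K') : SylSq K' := by
  have key : ∀ P : Sylow 2 K', ∃ P0 : Sylow 2 K,
      ∀ x, x ∈ (P0 : Subgroup K) ↔ e x ∈ (P : Subgroup K') := fun P =>
    ⟨P.comapOfInjective e.toMonoidHom e.injective fun x _ => ⟨e.symm x, e.apply_symm_apply x⟩,
      fun x => Iff.rfl⟩
  have hsym : ∀ (P : Sylow 2 K') (P0 : Sylow 2 K),
      (∀ x, x ∈ (P0 : Subgroup K) ↔ e x ∈ (P : Subgroup K')) → ∀ y, y ∈ (P : Subgroup K') →
        e.symm y ∈ (P0 : Subgroup K) := fun P P0 hP y hy =>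
    (hP _).2 (by rwa [e.apply_symm_apply])
  refine ⟨fun P x hx => ?_, fun P x y hx hy => ?_, fun P x y hx hy he => ?_, fun P => ?_⟩ <;>
    obtain ⟨P0, hP0⟩ := key P
  · apply e.symm.injective
    rw [map_one, map_mul, map_mul]
    exact h.sq_sq P0 _ (hsym P P0 hP0 x hx)
  · apply e.symm.injective
    simp only [map_one, map_mul, map_inv]
    exact h.comm P0 _ _ (hsym P P0 hP0 x hx) (hsym P P0 hP0 y hy)
  · apply e.symm.injective
    simp only [map_one, map_mul, map_inv]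
    exact h.sq_inj P0 _ _ (hsym P P0 hP0 x hx) (hsym P P0 hP0 y hy)
      (by rw [← map_mul, he, map_mul])
  · have h1 : Nat.card ↥(P0 : Subgroup K) = Nat.card ↥(P : Subgroup K') :=
      Nat.card_congr (e.toEquiv.subtypeEquiv fun x => hP0 x)
    have h2 : Nat.card {g : K // g ∈ (P0 : Subgroup K) ∧ g * g = 1} =
        Nat.card {g : K' // g ∈ (P : Subgroup K') ∧ g * g = 1} :=
      Nat.card_congr (e.toEquiv.subtypeEquiv fun x => and_congr (hP0 x) (by
        show x * x = 1 ↔ e x * e x = 1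
        rw [← map_mul, MulEquiv.map_eq_one_iff]))
    rw [← h1, ← h2]
    exact h.card P0

section Sz

variable {F : Type*} [Field F] [Fintype F] {m : ℕ} (hF : Fintype.card F = 2 ^ (2 * m + 1))
include hF

theorem sylSq_sz (hm : 1 ≤ m) : SylSq (Cfsg.Sz F m) := by
  classical
  haveI : Fact (Nat.Prime 2) := ⟨Nat.prime_two⟩
  have key : ∀ P : Sylow 2 (Cfsg.Sz F m), ∃ h : Cfsg.Sz F m,
      (∀ a b, h * U hF a b * h⁻¹ ∈ (P : Subgroup (Cfsg.Sz F m))) ∧
      ∀ g ∈ (P : Subgroup (Cfsg.Sz F m)), ∃ a b, g = h * U hF a b * h⁻¹ := by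
    intro P
    obtain ⟨h, hh⟩ := SzFacts.sylow_eq_map hF hm P
    exact ⟨h, fun a b => hh ▸ (SzFacts.mem_map_conj_USub hF).2 ⟨a, b, rfl⟩,
      fun g hg => (SzFacts.mem_map_conj_USub hF).1 (hh ▸ hg)⟩
  have hU2 : ∀ e : F, U hF 0 e * U hF 0 e = 1 := fun e => by
    rw [U_mul, sig_zero, zero_mul, add_zero, add_zero, add_self hF, U_zero]
  have hsig : ∀ a c : F, sig m a * a = sig m c * c → a = c := by
    intro a c he
    rcases eq_or_ne a 0 with rfl | ha
    · rw [mul_zero] at he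
      rcases mul_eq_zero.1 he.symm with e | e
      · exact (sig_eq_zero.1 e).symm
      · exact e.symm
    · have h1 : c * a⁻¹ * sig m (c * a⁻¹) = 1 := by
        rw [Suzuki.sig_mul, sig_inv]
        field_simp [sig_ne_zero ha]
        linear_combination -he
      have hc0 : c * a⁻¹ ≠ 0 := fun e => one_ne_zero (α := F) (by rw [← h1, e, zero_mul])
      exact ((mul_inv_eq_one₀ ha).1 (eq_one_of_mul_sig hF hc0 h1)).symm
  refine ⟨fun P x hx => ?_, fun P x y hx hy => ?_, fun P x y hx hy he => ?_, fun P => ?_⟩ <;>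
    obtain ⟨h, hin, hout⟩ := key P
  · obtain ⟨a, b, rfl⟩ := hout x hx
    calc _ = h * (U hF a b * U hF a b * (U hF a b * U hF a b)) * h⁻¹ := by group
      _ = 1 := by rw [OutSz.U_sq, hU2, mul_one, mul_inv_cancel]
  · obtain ⟨a, b, rfl⟩ := hout x hx
    obtain ⟨c, d, rfl⟩ := hout y hy
    obtain ⟨e, he⟩ : ∃ e, U hF a b * U hF c d * (U hF a b)⁻¹ * (U hF c d)⁻¹ = U hF 0 e := by
      rw [U_inv, U_inv, U_mul, U_mul, U_mul]
      refine ⟨_, congrArg (fun z => U hF z _) ?_⟩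
      linear_combination (a + c) * two_eq_zero hF
    calc _ = h * (U hF a b * U hF c d * (U hF a b)⁻¹ * (U hF c d)⁻¹ *
          (U hF a b * U hF c d * (U hF a b)⁻¹ * (U hF c d)⁻¹)) * h⁻¹ := by group
      _ = 1 := by rw [he, hU2, mul_one, mul_inv_cancel]
  · obtain ⟨a, b, rfl⟩ := hout x hx
    obtain ⟨c, d, rfl⟩ := hout y hy
    have h1 : h * (U hF a b * U hF a b) * h⁻¹ = h * (U hF c d * U hF c d) * h⁻¹ := by
      calc _ = h * U hF a b * h⁻¹ * (h * U hF a b * h⁻¹) := by group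
        _ = h * U hF c d * h⁻¹ * (h * U hF c d * h⁻¹) := he
        _ = _ := by group
    have h2 := mul_left_cancel (mul_right_cancel h1)
    rw [OutSz.U_sq, OutSz.U_sq] at h2
    obtain rfl := hsig a c (U_inj hF h2).2
    obtain ⟨e, he'⟩ : ∃ e, (U hF a b)⁻¹ * U hF a d = U hF 0 e := by
      rw [U_inv, U_mul]
      exact ⟨_, congrArg (fun z => U hF z _) (add_self hF a)⟩
    calc _ = h * ((U hF a b)⁻¹ * U hF a d * ((U hF a b)⁻¹ * U hF a d)) * h⁻¹ := by group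
      _ = 1 := by rw [he', hU2, mul_one, mul_inv_cancel]
  · have h1 : Nat.card ↥(P : Subgroup (Cfsg.Sz F m)) = (2 ^ (2 * m + 1)) ^ 2 :=
      (sylow_two hF hm P).1
    rw [h1]
    congr 1
    rw [← hF, ← Nat.card_eq_fintype_card]
    refine Nat.card_congr (Equiv.ofBijective
      (fun b : F => (⟨h * U hF 0 b * h⁻¹, hin 0 b, by
        calc _ = h * (U hF 0 b * U hF 0 b) * h⁻¹ := by group
          _ = 1 := by rw [hU2, mul_one, mul_inv_cancel]⟩ :
        {g : Cfsg.Sz F m // g ∈ (P : Subgroup (Cfsg.Sz F m)) ∧ g * g = 1}))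
      ⟨fun b b' hbb => (U_inj hF (mul_left_cancel (mul_right_cancel
        (congrArg Subtype.val hbb)))).2, ?_⟩)
    rintro ⟨g, hg, hg2⟩
    obtain ⟨a, b, rfl⟩ := hout g hg
    have ha : a = 0 := U_involution hF (by
      have h2 : h * (U hF a b * U hF a b) * h⁻¹ = 1 := by rw [← hg2]; group
      rwa [conj_eq_one_iff] at h2)
    subst ha
    exact ⟨b, rfl⟩

end Sz

theorem sylSq_of_isoSuzuki {K : Type*} [Group K] [Finite K] (h : Cfsg.Lie.IsoSuzuki K) :
    SylSq K := by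
  obtain ⟨F, iF, iT, m, hm, hF, ⟨e⟩⟩ := h
  exact (sylSq_sz hF hm).congr (e.trans (RankOne.SzBridge.szEquiv hF hm).symm).symm

/-- An element moving an involution of a Sylow subgroup into it normalizes it. -/
theorem mem_normalizer_of_involution {K : Type*} [Group K] [Finite K] (hB : BalData K)
    (hS : SylData K) (P : Sylow 2 K) {t g : K} (hg : g ∈ (P : Subgroup K)) (hg1 : g ≠ 1)
    (hg2 : g * g = 1) (htg : t * g * t⁻¹ ∈ (P : Subgroup K)) :
    t ∈ normalizer ((P : Subgroup K) : Set K) := by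
  haveI : Fact (Nat.Prime 2) := ⟨Nat.prime_two⟩
  have hc : ∀ g' : K, g' ∈ (P : Subgroup K) → g' ≠ 1 → g' * g' = 1 →
      centralizer ({g'} : Set K) = (P : Subgroup K) := fun g' h1 h2 h3 =>
    P.is_maximal' (hB.two g' (orderOf_eq_prime (by rw [pow_two, h3]) h2)) fun h hh =>
      mem_centralizer_singleton_iff.2 (hS.central P g' h1 h3 h hh)
  have h2 : t * g * t⁻¹ ≠ 1 := fun e => hg1 (conj_eq_one_iff.1 e)
  have h3 : t * g * t⁻¹ * (t * g * t⁻¹) = 1 := by
    calc _ = t * (g * g) * t⁻¹ := by group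
      _ = 1 := by rw [hg2, mul_one, mul_inv_cancel]
  refine LocalEven62.mem_normalizer_of_conj_mem fun x hx => ?_
  rw [← hc _ htg h2 h3, mem_centralizer_singleton_iff]
  calc t * x * t⁻¹ * (t * g * t⁻¹) = t * (x * g) * t⁻¹ := by group
    _ = t * (g * x) * t⁻¹ := by rw [hS.central P g hg hg2 x hx]
    _ = t * g * t⁻¹ * (t * x * t⁻¹) := by group

/-- In the free case a moved component is simple and its Sylow subgroup centralizes `A`. -/
theorem free_part {H : Type u} [Group H] [Finite H] (T : Sylow 2 H) (A : Subgroup H)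
    (hK : KHyp T A) (L : Subgroup H) (hL : Moved A L) (hF : FreeOn A) :
    center ↥L = ⊥ ∧ ∀ p ∈ L, p ∈ (T : Subgroup H) → p ∈ centralizer (A : Set H) := by
  classical
  haveI : Fact (Nat.Prime 2) := ⟨Nat.prime_two⟩
  have hSz := component_iso_of_sec hK.sec hL.1
  have hSyl := sylData_of_isoSuzuki hSz
  have hSq := sylSq_of_isoSuzuki hSz
  have hBal := balData_of_isoSuzuki hSz
  obtain ⟨h, V, f, hhL, -, hhA, hVAL, -, hf, hcard, hVC, hdec, hhV, hhR, htr, P, hP, himg⟩ :=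
    component_torus hK.core T hK.sc hK.elem hL.1 hSz hL.2
  set π := QuotientGroup.mk' (center ↥L) with hπ
  set h₀ : ↥L := ⟨h, hhL⟩ with hh₀
  have hsqA : ∀ x ∈ A, x * x = 1 := fun x hx => by rw [← pow_two]; exact hK.elem.2 x hx
  have hTN : ∀ p ∈ (T : Subgroup H), p ∈ normalizer (A : Set H) := fun p hp =>
    LocalEven62.mem_normalizer_of_conj_mem fun x hx =>
      hK.sc.2 x hx p (mul_mem (mul_mem hp (hK.sc.1 hx)) (inv_mem hp))
  have hZc : ∀ z ∈ center ↥L, (z : H) ∈ centralizer (L : Set H) := fun z hz =>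
    mem_centralizer_iff.2 fun y hy => congrArg Subtype.val (mem_center_iff.1 hz ⟨y, hy⟩)
  -- lifts of involutions
  have hlift : ∀ x : ↥L, π x ∈ (P : Subgroup (↥L ⧸ center ↥L)) → π x * π x = 1 →
      ∃ v : ↥L, (v : H) ∈ V ∧ v⁻¹ * x ∈ center ↥L := by
    intro x hx hx2
    obtain ⟨v, hv, hvx⟩ := (himg _).2 ⟨hx, hx2⟩
    exact ⟨v, hv, QuotientGroup.eq.1 hvx⟩
  have hVimg : ∀ v : ↥L, (v : H) ∈ V → π v ∈ (P : Subgroup (↥L ⧸ center ↥L)) ∧ π v * π v = 1 :=
    fun v hv => (himg _).1 ⟨v, hv, rfl⟩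
  have hVne : ∀ v : ↥L, (v : H) ∈ V → (v : H) ≠ 1 → π v ≠ 1 := fun v hv hv1 e => hv1 (by
    have h1 : (v : H) ∈ V ⊓ centralizer (L : Set H) :=
      ⟨hv, hZc v ((QuotientGroup.eq_one_iff v).1 e)⟩
    rwa [hVC, mem_bot] at h1)
  -- powers of `h` between involutions of `P`
  have htrP : ∀ g g' : ↥L ⧸ center ↥L, g ∈ (P : Subgroup (↥L ⧸ center ↥L)) →
      g' ∈ (P : Subgroup (↥L ⧸ center ↥L)) → g ≠ 1 → g' ≠ 1 → g * g = 1 → g' * g' = 1 →
      ∃ j : ℕ, π (h₀ ^ j) * g * (π (h₀ ^ j))⁻¹ = g' ∧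
        π (h₀ ^ j) ∈ normalizer ((P : Subgroup (↥L ⧸ center ↥L)) : Set _) := by
    intro g g' hg hg' hg1 hg'1 hg2 hg'2
    obtain ⟨v, hv, rfl⟩ := (himg g).2 ⟨hg, hg2⟩
    obtain ⟨w, hw, rfl⟩ := (himg g').2 ⟨hg', hg'2⟩
    obtain ⟨j, hj⟩ := htr (v : H) hv (w : H) hw
      (fun e => hg1 (by rw [show v = 1 from Subtype.ext e, map_one]))
      (fun e => hg'1 (by rw [show w = 1 from Subtype.ext e, map_one]))
    have he : π (h₀ ^ j) * π v * (π (h₀ ^ j))⁻¹ = π w := by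
      rw [← map_inv, ← map_mul, ← map_mul]
      exact congrArg π (Subtype.ext hj)
    exact ⟨j, he, mem_normalizer_of_involution hBal hSyl P hg hg1 hg2 (by rw [he]; exact hg')⟩
  have hconjP : ∀ (j : ℕ) (x : ↥L),
      π (h₀ ^ j) ∈ normalizer ((P : Subgroup (↥L ⧸ center ↥L)) : Set _) → (x : H) ∈ (T : Subgroup H) →
      ((h₀ ^ j * x * (h₀ ^ j)⁻¹ : ↥L) : H) ∈ (T : Subgroup H) := by
    intro j x hj hx
    rw [← hP, map_mul, map_mul, map_inv]
    exact (mem_normalizer_iff.1 hj _).1 ((hP x).2 hx)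
  have hjA : ∀ j : ℕ, h ^ j ∈ normalizer (A : Set H) := fun j => pow_mem hhA j
  have hCAconj : ∀ (j : ℕ) (x : H), x ∈ centralizer (A : Set H) →
      h ^ j * x * (h ^ j)⁻¹ ∈ centralizer (A : Set H) := fun j x hx =>
    (mem_normalizer_iff.1 (LocalEven62.normalizer_le_normalizer_centralizer A (hjA j)) x).1 hx
  -- elements over involutions centralize `A`
  have hinvC : ∀ x : ↥L, (x : H) ∈ (T : Subgroup H) → π x * π x = 1 →
      (x : H) ∈ centralizer (A : Set H) := by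
    intro x hx hx2
    obtain ⟨v, hv, hz⟩ := hlift x ((hP x).2 hx) hx2
    rw [mem_centralizer_iff]
    intro a ha
    obtain ⟨w, hw, r, hr, rfl⟩ := hdec a ha
    have e1 : (x : H) = v * ((v⁻¹ * x : ↥L) : H) := by simp
    have hzw := mem_centralizer_iff.1 (hZc _ hz) w (hVAL hw).2
    have hvw : (v : H) * w = w * v :=
      congrArg Subtype.val (hK.elem.1.is_comm.comm ⟨v, (hVAL hv).1⟩ ⟨w, (hVAL hw).1⟩)
    have hxr := mem_centralizer_iff.1 (Subgroup.mem_inf.1 hr).2 (x : H) x.2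
    calc w * r * (x : H) = w * (x * r) := by rw [mul_assoc, hxr]
      _ = w * v * ((v⁻¹ * x : ↥L) : H) * r := by rw [e1]; group
      _ = v * (w * ((v⁻¹ * x : ↥L) : H)) * r := by rw [← hvw]; group
      _ = v * (((v⁻¹ * x : ↥L) : H) * w) * r := by rw [hzw]
      _ = (x : H) * (w * r) := by rw [e1]; group
  -- the Sylow subgroup of `L` centralizes `A`
  have hcentA : ∀ p ∈ L, p ∈ (T : Subgroup H) → p ∈ centralizer (A : Set H) := by
    by_contra hnot
    push Not at hnot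
    obtain ⟨p₀, hp₀L, hp₀T, hp₀⟩ := hnot
    set E : Subgroup H := (T : Subgroup H) ⊓ L with hE
    set R : Subgroup H := A ⊓ centralizer (L : Set H) with hR
    have hmove : ∀ e : ↥L, (e : H) ∈ (T : Subgroup H) → ∀ v : ↥L, (v : H) ∈ V →
        (e : H) * v * (e : H)⁻¹ * (v : H)⁻¹ ∈ R := by
      intro e he v hv
      have hvP := hVimg v hv
      have h1 : e * v * e⁻¹ * v⁻¹ ∈ center ↥L := by
        rw [← QuotientGroup.eq_one_iff]
        show π _ = 1
        rw [map_mul, map_mul, map_mul, map_inv, map_inv,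
          hSyl.central P _ hvP.1 hvP.2 _ ((hP e).2 he)]
        group
      refine ⟨A.mul_mem ((mem_normalizer_iff.1 (hTN _ he) _).1 (hVAL hv).1)
        (A.inv_mem (hVAL hv).1), ?_⟩
      simpa using hZc _ h1
    have hsqE : ∀ e ∈ E, e * e ∈ centralizer (A : Set H) := by
      intro e he
      rw [mem_centralizer_iff]
      intro a ha
      obtain ⟨w, hw, r, hr, rfl⟩ := hdec a ha
      have heT := (Subgroup.mem_inf.1 he).1
      have heL := (Subgroup.mem_inf.1 he).2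
      obtain ⟨c, hc⟩ : ∃ c, e * w * e⁻¹ * w⁻¹ = c := ⟨_, rfl⟩
      have hcR : c ∈ R := hc ▸ hmove ⟨e, heL⟩ heT ⟨w, (hVAL hw).2⟩ hw
      have hce : e * c * e⁻¹ = c := by
        rw [mem_centralizer_iff.1 (Subgroup.mem_inf.1 hcR).2 e heL]; group
      have her : e * e * r = r * (e * e) :=
        mem_centralizer_iff.1 (Subgroup.mem_inf.1 hr).2 (e * e) (mul_mem heL heL)
      have hw2 : e * e * w * (e * e)⁻¹ = w := by
        have h1 : e * w * e⁻¹ = c * w := by rw [← hc]; group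
        calc e * e * w * (e * e)⁻¹ = e * (e * w * e⁻¹) * e⁻¹ := by group
          _ = e * (c * w) * e⁻¹ := by rw [h1]
          _ = (e * c * e⁻¹) * (e * w * e⁻¹) := by group
          _ = w := by rw [hce, h1, ← mul_assoc, hsqA c (Subgroup.mem_inf.1 hcR).1, one_mul]
      calc w * r * (e * e) = w * (e * e * r) := by rw [mul_assoc, her]
        _ = (e * e * w * (e * e)⁻¹) * (e * e) * r := by rw [hw2]; group
        _ = e * e * (w * r) := by group
    have hnle : ¬ E ≤ centralizer (A : Set H) := fun hle => hp₀ (hle ⟨hp₀T, hp₀L⟩)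
    have hFE : ∀ x : ↥L, (x : H) ∈ (T : Subgroup H) →
        ((x : H) ∈ centralizer (A : Set H) ↔ π x * π x = 1) := by
      intro x hx
      refine ⟨fun hxA => ?_, hinvC x hx⟩
      by_contra hx2
      refine hnle fun y hy => ?_
      obtain ⟨hyT, hyL⟩ := Subgroup.mem_inf.1 hy
      let y₀ : ↥L := ⟨y, hyL⟩
      by_cases hy2 : π y₀ * π y₀ = 1
      · exact hinvC y₀ hyT hy2
      have hxP := (hP x).2 hx
      have hyP := (hP y₀).2 hyT
      obtain ⟨j, hj, hjN⟩ := htrP (π x * π x) (π y₀ * π y₀) (mul_mem hxP hxP) (mul_mem hyP hyP)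
        hx2 hy2 (hSq.sq_sq P _ hxP) (hSq.sq_sq P _ hyP)
      let x' : ↥L := h₀ ^ j * x * (h₀ ^ j)⁻¹
      have hx'T : (x' : H) ∈ (T : Subgroup H) := hconjP j x hjN hx
      have hx'A : (x' : H) ∈ centralizer (A : Set H) := hCAconj j (x : H) hxA
      have hsqxy : π x' * π x' = π y₀ * π y₀ := by
        rw [← hj]
        simp only [x', map_mul, map_inv]
        group
      have h1 : ((x'⁻¹ * y₀ : ↥L) : H) ∈ centralizer (A : Set H) := by
        refine hinvC _ (by simpa using mul_mem (inv_mem hx'T) hyT) ?_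
        rw [map_mul, map_inv]
        exact hSq.sq_inj P _ _ ((hP x').2 hx'T) hyP hsqxy
      have h2 := mul_mem hx'A h1
      simpa [y₀] using h2
    -- cardinalities
    set q := Nat.card {g : ↥L ⧸ center ↥L // g ∈ (P : Subgroup (↥L ⧸ center ↥L)) ∧ g * g = 1}
      with hq
    set I : Subgroup (↥L ⧸ center ↥L) := (V.subgroupOf L).map π with hI
    have hIq : Nat.card ↥I = q := Nat.card_congr (Equiv.subtypeEquivRight fun y => himg y)
    have hVq : Nat.card ↥V = q := by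
      rw [← hIq]
      refine Nat.card_congr (Equiv.ofBijective (fun v : ↥V =>
        (⟨π ⟨v, (hVAL v.2).2⟩, ⟨⟨v, (hVAL v.2).2⟩, v.2, rfl⟩⟩ : ↥I)) ⟨fun x y hxy => ?_, ?_⟩)
      · by_contra hne
        refine hVne (⟨x, (hVAL x.2).2⟩⁻¹ * ⟨y, (hVAL y.2).2⟩) (mul_mem (inv_mem x.2) y.2)
          (fun e => hne (Subtype.ext (inv_mul_eq_one.1 e))) ?_
        rw [map_mul, map_inv, show π ⟨x, (hVAL x.2).2⟩ = π ⟨y, (hVAL y.2).2⟩ from
          congrArg Subtype.val hxy, inv_mul_cancel]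
      · rintro ⟨_, v, hv, rfl⟩
        exact ⟨⟨v, hv⟩, rfl⟩
    have hEF : Nat.card ↥E = q * Nat.card ↥(E ⊓ centralizer (A : Set H)) := by
      have hsurj := QuotientGroup.mk'_surjective (center ↥L)
      have e1 : ((P : Subgroup (↥L ⧸ center ↥L)).comap π).map L.subtype = E := by
        ext y
        constructor
        · rintro ⟨x, hx, rfl⟩
          exact ⟨(hP x).1 hx, x.2⟩
        · intro hy
          exact ⟨⟨y, (Subgroup.mem_inf.1 hy).2⟩, (hP _).2 (Subgroup.mem_inf.1 hy).1, rfl⟩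
      have e2 : (I.comap π).map L.subtype = E ⊓ centralizer (A : Set H) := by
        ext y
        constructor
        · rintro ⟨x, hx, rfl⟩
          obtain ⟨hxP, hx2⟩ := (himg _).1 hx
          exact ⟨⟨(hP x).1 hxP, x.2⟩, hinvC x ((hP x).1 hxP) hx2⟩
        · intro hy
          obtain ⟨⟨hyT, hyL⟩, hyA⟩ := hy
          exact ⟨⟨y, hyL⟩, (himg _).2 ⟨(hP _).2 hyT, (hFE _ hyT).1 hyA⟩, rfl⟩
      rw [← e2, ← e1, card_map_of_injective L.subtype_injective,
        card_map_of_injective L.subtype_injective]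
      have h1 := ((P : Subgroup (↥L ⧸ center ↥L)).comap π).card_mul_index
      have h2 := (I.comap π).card_mul_index
      rw [index_comap_of_surjective _ hsurj] at h1 h2
      have h3 := (P : Subgroup (↥L ⧸ center ↥L)).card_mul_index
      have h4 := I.card_mul_index
      rw [hSq.card P, ← hq] at h3
      rw [hIq] at h4
      have hqpos : 0 < q := hIq ▸ Nat.card_pos
      have h5 : I.index = q * (P : Subgroup (↥L ⧸ center ↥L)).index := by
        refine Nat.eq_of_mul_eq_mul_left hqpos ?_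
        rw [h4, ← h3, pow_two, mul_assoc]
      rw [h5] at h2
      refine Nat.eq_of_mul_eq_mul_right
        (Nat.pos_of_ne_zero (P : Subgroup (↥L ⧸ center ↥L)).index_ne_zero_of_finite) ?_
      rw [h1, ← h2]
      ring
    have hAR : A ⊓ centralizer (E : Set H) = R := by
      refine le_antisymm (fun a ha => ?_) fun a ha => ⟨(Subgroup.mem_inf.1 ha).1, ?_⟩
      · obtain ⟨haA, haE⟩ := Subgroup.mem_inf.1 ha
        obtain ⟨v, hv, r, hr, rfl⟩ := hdec a haA
        by_cases hv1 : v = 1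
        · rwa [hv1, one_mul]
        exfalso
        have hrE : r ∈ centralizer (E : Set H) := mem_centralizer_iff.2 fun e he =>
          mem_centralizer_iff.1 (Subgroup.mem_inf.1 hr).2 e (Subgroup.mem_inf.1 he).2
        have hvE : v ∈ centralizer (E : Set H) := by
          simpa using mul_mem haE (inv_mem hrE)
        refine hnle fun y hy => ?_
        rw [mem_centralizer_iff]
        intro a ha
        obtain ⟨w, hw, r', hr', rfl⟩ := hdec a ha
        obtain ⟨hyT, hyL⟩ := Subgroup.mem_inf.1 hy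
        have hyw : w * y = y * w := by
          by_cases hw1 : w = 1
          · rw [hw1, one_mul, mul_one]
          let v₀ : ↥L := ⟨v, (hVAL hv).2⟩
          let w₀ : ↥L := ⟨w, (hVAL hw).2⟩
          obtain ⟨j, hj, hjN⟩ := htrP (π w₀) (π v₀) (hVimg w₀ hw).1 (hVimg v₀ hv).1
            (hVne w₀ hw hw1) (hVne v₀ hv hv1) (hVimg w₀ hw).2 (hVimg v₀ hv).2
          have hjv : h ^ j * w * (h ^ j)⁻¹ = v := by
            have hmem : ((h₀ ^ j * w₀ * (h₀ ^ j)⁻¹ : ↥L) : H) ∈ V :=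
              (mem_normalizer_iff.1 (pow_mem hhV j) w).1 hw
            by_contra hne
            refine hVne ((h₀ ^ j * w₀ * (h₀ ^ j)⁻¹)⁻¹ * v₀) (mul_mem (inv_mem hmem) hv)
              (fun e => hne (inv_mul_eq_one.1 e)) ?_
            rw [map_mul, map_inv, map_mul, map_mul, map_inv, hj, inv_mul_cancel]
          have hyE : h ^ j * y * (h ^ j)⁻¹ ∈ E :=
            ⟨hconjP j ⟨y, hyL⟩ hjN hyT, (h₀ ^ j * ⟨y, hyL⟩ * (h₀ ^ j)⁻¹ : ↥L).2⟩
          have h1 := mem_centralizer_iff.1 hvE _ hyE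
          rw [← hjv] at h1
          calc w * y = (h ^ j)⁻¹ * (h ^ j * w * (h ^ j)⁻¹ * (h ^ j * y * (h ^ j)⁻¹)) * h ^ j := by
                group
            _ = (h ^ j)⁻¹ * (h ^ j * y * (h ^ j)⁻¹ * (h ^ j * w * (h ^ j)⁻¹)) * h ^ j := by rw [h1]
            _ = y * w := by group
        have hyr := mem_centralizer_iff.1 (Subgroup.mem_inf.1 hr').2 y hyL
        calc w * r' * y = w * (y * r') := by rw [mul_assoc, hyr]
          _ = y * (w * r') := by rw [← mul_assoc, hyw, mul_assoc]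
      · exact mem_centralizer_iff.2 fun e he =>
          mem_centralizer_iff.1 (Subgroup.mem_inf.1 ha).2 e (Subgroup.mem_inf.1 he).2
    have hAcard : Nat.card ↥A = q * Nat.card ↥R := by
      rw [← hVq, ← Nat.card_prod]
      refine (Nat.card_congr (Equiv.ofBijective (fun x : ↥V × ↥R =>
        (⟨(x.1 : H) * x.2, A.mul_mem (hVAL x.1.2).1 (Subgroup.mem_inf.1 x.2.2).1⟩ : ↥A)) ⟨?_, ?_⟩)).symm
      · rintro ⟨⟨v, hv⟩, r, hr⟩ ⟨⟨v', hv'⟩, r', hr'⟩ he
        have h1 : v * r = v' * r' := congrArg Subtype.val he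
        have h2 : v'⁻¹ * v = r' * r⁻¹ := by
          rw [eq_mul_inv_iff_mul_eq, mul_assoc, h1, inv_mul_cancel_left]
        have h3 : v'⁻¹ * v ∈ V ⊓ centralizer (L : Set H) :=
          Subgroup.mem_inf.2 ⟨mul_mem (inv_mem hv') hv,
            h2 ▸ mul_mem (Subgroup.mem_inf.1 hr').2 (inv_mem (Subgroup.mem_inf.1 hr).2)⟩
        rw [hVC, mem_bot, inv_mul_eq_one] at h3
        subst h3
        obtain rfl := mul_left_cancel h1
        rfl
      · rintro ⟨a, ha⟩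
        obtain ⟨v, hv, r, hr, rfl⟩ := hdec a ha
        exact ⟨(⟨v, hv⟩, ⟨r, hr⟩), rfl⟩
    have hfree := hF E (fun e he => hTN e (Subgroup.mem_inf.1 he).1) hsqE hnle
    rw [hAR, hEF, hAcard] at hfree
    exact absurd hfree (not_lt.2 (le_of_eq (by ring)))
  refine ⟨?_, hcentA⟩
  -- the centre is trivial
  set Q : Subgroup ↥L := (P : Subgroup (↥L ⧸ center ↥L)).comap π with hQ
  have hQT : ∀ x : ↥L, x ∈ Q ↔ (x : H) ∈ (T : Subgroup H) := fun x => hP x
  have hZQ : ∀ z ∈ center ↥L, z ∈ Q := fun z hz => by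
    rw [hQ, mem_comap, hπ, QuotientGroup.mk'_apply, (QuotientGroup.eq_one_iff z).2 hz]
    exact one_mem _
  have hVQ : ∀ v : ↥L, (v : H) ∈ V → ∀ x ∈ Q, x * v = v * x := fun v hv x hx => Subtype.ext
    (mem_centralizer_iff.1 (hcentA x x.2 ((hQT x).1 hx)) v (hVAL hv).1).symm
  let W₀ : Subgroup ↥L :=
    { carrier := {x | ∃ v : ↥L, (v : H) ∈ V ∧ ∃ z ∈ center ↥L, x = v * (z * z)}
      one_mem' := ⟨1, one_mem _, 1, one_mem _, by simp⟩
      mul_mem' := by
        rintro _ _ ⟨v, hv, z, hz, rfl⟩ ⟨w, hw, y, hy, rfl⟩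
        refine ⟨v * w, mul_mem hv hw, z * y, mul_mem hz hy, ?_⟩
        have c1 : w * (z * z) = z * z * w := mem_center_iff.1 (mul_mem hz hz) w
        have c2 : y * z = z * y := mem_center_iff.1 hz y
        calc v * (z * z) * (w * (y * y)) = v * (z * z * w) * (y * y) := by group
          _ = v * (w * (z * z)) * (y * y) := by rw [c1]
          _ = v * w * (z * (z * y) * y) := by group
          _ = v * w * (z * (y * z) * y) := by rw [c2]
          _ = v * w * (z * y * (z * y)) := by group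
      inv_mem' := by
        rintro _ ⟨v, hv, z, hz, rfl⟩
        refine ⟨v⁻¹, inv_mem hv, z⁻¹, inv_mem hz, ?_⟩
        rw [mul_inv_rev, ← mem_center_iff.1 (inv_mem (mul_mem hz hz)) v⁻¹, mul_inv_rev] }
  have hC0 : ∀ x ∈ Q, π x * π x = 1 → ∀ y ∈ Q, y * x = x * y := by
    intro x hx hx2 y hy
    obtain ⟨v, hv, hz⟩ := hlift x hx hx2
    have c1 := mem_center_iff.1 hz y
    calc y * x = y * v * (v⁻¹ * x) := by group
      _ = v * y * (v⁻¹ * x) := by rw [hVQ v hv y hy]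
      _ = v * ((v⁻¹ * x) * y) := by rw [mul_assoc, c1]
      _ = x * y := by group
  have hconjW : ∀ (j : ℕ) (x : ↥L), x ∈ W₀ → h₀ ^ j * x * (h₀ ^ j)⁻¹ ∈ W₀ := by
    rintro j _ ⟨v, hv, z, hz, rfl⟩
    refine ⟨h₀ ^ j * v * (h₀ ^ j)⁻¹, (mem_normalizer_iff.1 (pow_mem hhV j) v).1 hv, z, hz, ?_⟩
    calc h₀ ^ j * (v * (z * z)) * (h₀ ^ j)⁻¹ = h₀ ^ j * v * ((z * z) * (h₀ ^ j)⁻¹) := by group
      _ = h₀ ^ j * v * ((h₀ ^ j)⁻¹ * (z * z)) := by
          rw [← mem_center_iff.1 (mul_mem hz hz) ((h₀ ^ j)⁻¹)]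
      _ = _ := by group
  have hsqQ : ∀ x ∈ Q, ∃ v : ↥L, (v : H) ∈ V ∧ ∃ z ∈ center ↥L, x * x = v * z := by
    intro x hx
    obtain ⟨v, hv, hz⟩ := hlift (x * x) (mul_mem hx hx : x * x ∈ Q)
      (by rw [map_mul]; exact hSq.sq_sq P _ hx)
    exact ⟨v, hv, _, hz, by group⟩
  have hcomQ : ∀ x ∈ Q, ∀ y ∈ Q, ∀ w ∈ Q, x * y * x⁻¹ * y⁻¹ * w = w * (x * y * x⁻¹ * y⁻¹) :=
    fun x hx y hy w hw => (hC0 _ (mul_mem (mul_mem (mul_mem hx hy) (inv_mem hx)) (inv_mem hy))
      (by simp only [map_mul, map_inv]; exact hSq.comm P _ _ hx hy) w hw).symm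
  -- a square class outside the involutions
  have hsame : ∀ x ∈ Q, ∀ y ∈ Q, π x * π x ≠ 1 → π y * π y ≠ 1 →
      (x * x)⁻¹ * (y * y) ∈ W₀ := by
    intro x hx y hy hx2 hy2
    obtain ⟨j, hj, hjN⟩ := htrP (π x * π x) (π y * π y) (mul_mem hx hx) (mul_mem hy hy) hx2 hy2
      (hSq.sq_sq P _ hx) (hSq.sq_sq P _ hy)
    set x' := h₀ ^ j * x * (h₀ ^ j)⁻¹ with hx'
    have hx'Q : x' ∈ Q := (hQT _).2 (hconjP j x hjN ((hQT x).1 hx))
    have hsqxy : π x' * π x' = π y * π y := by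
      rw [← hj]
      simp only [hx', map_mul, map_inv]
      group
    obtain ⟨v, hv, hz⟩ := hlift (x'⁻¹ * y) (mul_mem (inv_mem hx'Q) hy : x'⁻¹ * y ∈ Q) (by
      rw [map_mul, map_inv]; exact hSq.sq_inj P _ _ hx'Q hy hsqxy)
    obtain ⟨z, hzdef⟩ : ∃ z, v⁻¹ * (x'⁻¹ * y) = z := ⟨_, rfl⟩
    rw [hzdef] at hz
    have hyeq : y = x' * (v * z) := by rw [← hzdef]; group
    have hv2 : v * v = 1 := Subtype.ext (hsqA _ (hVAL hv).1)
    have c0 := mem_center_iff.1 hz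
    have hy2' : y * y = x' * x' * (z * z) := by
      calc y * y = x' * v * (z * (x' * v)) * z := by rw [hyeq]; group
        _ = x' * v * ((x' * v) * z) * z := by rw [c0 (x' * v)]
        _ = x' * (v * x') * v * (z * z) := by group
        _ = x' * (x' * v) * v * (z * z) := by rw [hVQ v hv x' hx'Q]
        _ = x' * x' * (v * v) * (z * z) := by group
        _ = _ := by rw [hv2, mul_one]
    obtain ⟨w, hw, c, hc, hxx⟩ := hsqQ x hx
    have e1 : x' * x' = h₀ ^ j * w * (h₀ ^ j)⁻¹ * c := by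
      calc x' * x' = h₀ ^ j * (x * x) * (h₀ ^ j)⁻¹ := by rw [hx']; group
        _ = h₀ ^ j * w * (c * (h₀ ^ j)⁻¹) := by rw [hxx]; group
        _ = h₀ ^ j * w * ((h₀ ^ j)⁻¹ * c) := by rw [← mem_center_iff.1 hc ((h₀ ^ j)⁻¹)]
        _ = _ := by group
    refine ⟨w⁻¹ * (h₀ ^ j * w * (h₀ ^ j)⁻¹),
      mul_mem (inv_mem hw) ((mem_normalizer_iff.1 (pow_mem hhV j) w).1 hw), z, hz, ?_⟩
    calc (x * x)⁻¹ * (y * y) = (w * c)⁻¹ * (h₀ ^ j * w * (h₀ ^ j)⁻¹ * c) * (z * z) := by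
          rw [hxx, hy2', e1]; group
      _ = c⁻¹ * (w⁻¹ * (h₀ ^ j * w * (h₀ ^ j)⁻¹) * c) * (z * z) := by group
      _ = c⁻¹ * (c * (w⁻¹ * (h₀ ^ j * w * (h₀ ^ j)⁻¹))) * (z * z) := by
          rw [mem_center_iff.1 hc (w⁻¹ * (h₀ ^ j * w * (h₀ ^ j)⁻¹))]
      _ = _ := by group
  -- commutators
  have hkey : ∀ x ∈ Q, ∀ y ∈ Q, π x * π x ≠ 1 → π y * π y ≠ 1 →
      π (x * y) * π (x * y) ≠ 1 → ∀ c : ↥L, c ∈ center ↥L → (x * x)⁻¹ * c ∈ W₀ →
      x * y * x⁻¹ * y⁻¹ * c ∈ W₀ := by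
    intro x hx y hy hx2 hy2 hxy2 c hc hcx
    obtain ⟨k, hk⟩ : ∃ k, y * x * y⁻¹ * x⁻¹ = k := ⟨_, rfl⟩
    have hkc : k * x = x * k := hk ▸ hcomQ y hy x hx x hx
    have e1 : x * y * (x * y) = k * (x * x) * (y * y) := by
      calc x * y * (x * y) = x * ((y * x * y⁻¹ * x⁻¹) * x * y) * y := by group
        _ = x * (k * x * y) * y := by rw [hk]
        _ = (x * k) * x * y * y := by group
        _ = _ := by rw [← hkc]; group
    have h1 := hsame x hx (x * y) (mul_mem hx hy) hx2 hxy2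
    have h2 := hsame x hx y hy hx2 hy2
    have hWc : ∀ u ∈ W₀, ∀ q ∈ Q, q * u = u * q := by
      rintro _ ⟨v, hv, z, hz, rfl⟩ q hq
      have c1 := mem_center_iff.1 (mul_mem hz hz) q
      calc q * (v * (z * z)) = v * q * (z * z) := by rw [← mul_assoc, hVQ v hv q hq]
        _ = v * (z * z * q) := by rw [mul_assoc, c1]
        _ = _ := by group
    rw [e1] at h1
    have hkQ : k ∈ Q := hk ▸ mul_mem (mul_mem (mul_mem hy hx) (inv_mem hy)) (inv_mem hx)
    have e3 : (x * x)⁻¹ * (k * (x * x) * (y * y)) = k * (x * x) * ((x * x)⁻¹ * (y * y)) := by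
      have hcomm' : k * (x * x) = x * x * k := by
        rw [← mul_assoc, hkc, mul_assoc, hkc, ← mul_assoc]
      have hky : k * (y * y) = y * y * k := hk ▸ hcomQ y hy x hx (y * y) (mul_mem hy hy)
      calc (x * x)⁻¹ * (k * (x * x) * (y * y)) = k * (y * y) := by rw [hcomm']; group
        _ = _ := by group
    rw [e3] at h1
    have h3 : k * (x * x) ∈ W₀ := by
      have := mul_mem h1 (inv_mem h2)
      rwa [mul_inv_cancel_right] at this
    have h4 : k * c ∈ W₀ := by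
      have := mul_mem h3 hcx
      rwa [show k * (x * x) * ((x * x)⁻¹ * c) = k * c by group] at this
    -- `[x, y] = k⁻¹` and `c²` is in `W₀`
    have e4 : x * y * x⁻¹ * y⁻¹ * c = (k * c)⁻¹ * (c * c) := by
      rw [← hk]
      calc x * y * x⁻¹ * y⁻¹ * c = c⁻¹ * (c * (x * y * x⁻¹ * y⁻¹)) * c := by group
        _ = c⁻¹ * ((x * y * x⁻¹ * y⁻¹) * c) * c := by
            rw [← mem_center_iff.1 hc (x * y * x⁻¹ * y⁻¹)]
        _ = _ := by group
    rw [e4]
    exact mul_mem (inv_mem h4) ⟨1, one_mem _, c, hc, by simp⟩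
  set q := Nat.card {g : ↥L ⧸ center ↥L // g ∈ (P : Subgroup (↥L ⧸ center ↥L)) ∧ g * g = 1}
    with hq
  have hIq : Nat.card ↥((V.subgroupOf L).map π) = q :=
    Nat.card_congr (Equiv.subtypeEquivRight fun y => himg y)
  have hq8 : 8 ≤ q := by
    obtain ⟨f', -, hf', hcard'⟩ := hSyl.card P
    rw [hq, hcard']
    exact le_trans (by norm_num) (Nat.pow_le_pow_right (show 1 ≤ 2 by norm_num) hf')
  -- three independent elements
  have hind : ∀ x ∈ Q, ∀ y ∈ Q, ∃ z ∈ Q, π z * π z ≠ 1 ∧ π (x * z) * π (x * z) ≠ 1 ∧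
      π (y * z) * π (y * z) ≠ 1 ∧ π (x * (y * z)) * π (x * (y * z)) ≠ 1 := by
    intro x hx y hy
    by_contra hno
    push Not at hno
    set I := (V.subgroupOf L).map π with hI
    let c : Fin 4 → ↥L ⧸ center ↥L := ![1, (π x)⁻¹, (π y)⁻¹, (π y)⁻¹ * (π x)⁻¹]
    have hcov : ∀ g ∈ (P : Subgroup (↥L ⧸ center ↥L)), ∃ i, ∃ u ∈ I, g = c i * u := by
      intro g hg
      obtain ⟨z, rfl⟩ := QuotientGroup.mk'_surjective (center ↥L) g
      by_cases h1 : π z * π z = 1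
      · exact ⟨0, π z, (himg _).2 ⟨hg, h1⟩, by simp [c, hπ]⟩
      by_cases h2 : π (x * z) * π (x * z) = 1
      · exact ⟨1, π (x * z), (himg _).2 ⟨(mul_mem hx hg : x * z ∈ Q), h2⟩, by simp [c, hπ]⟩
      by_cases h3 : π (y * z) * π (y * z) = 1
      · exact ⟨2, π (y * z), (himg _).2 ⟨(mul_mem hy hg : y * z ∈ Q), h3⟩, by simp [c, hπ]⟩
      exact ⟨3, π (x * (y * z)), (himg _).2 ⟨(mul_mem hx (mul_mem hy hg) : x * (y * z) ∈ Q),
        hno z hg h1 h2 h3⟩, by simp [c, hπ]⟩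
    choose! i u hu hgu using hcov
    have hle : Nat.card ↥(P : Subgroup (↥L ⧸ center ↥L)) ≤ 4 * q := by
      rw [← hIq, ← show Nat.card (Fin 4) = 4 by simp, ← Nat.card_prod]
      refine Nat.card_le_card_of_injective (fun g => (i g, (⟨u g, hu g g.2⟩ : ↥I))) fun g g' he => ?_
      have h1 : i g = i g' := congrArg Prod.fst he
      have h2 : u g = u g' := congrArg (fun p => (p.2 : ↥L ⧸ center ↥L)) he
      exact Subtype.ext (by rw [hgu g g.2, hgu g' g'.2, h1, h2])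
    rw [hSq.card P, ← hq, pow_two] at hle
    nlinarith
  -- all commutators lie in `W₀`
  have hcomW : ∀ x ∈ Q, ∀ y ∈ Q, x * y * x⁻¹ * y⁻¹ ∈ W₀ := by
    intro x hx y hy
    by_cases hx2 : π x * π x = 1
    · rw [← hC0 x hx hx2 y hy]; simp
    by_cases hy2 : π y * π y = 1
    · rw [hC0 y hy hy2 x hx]; simp
    by_cases hxy2 : π (x * y) * π (x * y) = 1
    · have h1 := hC0 (x * y) (mul_mem hx hy) hxy2 x hx
      have h2 : x * y = y * x := mul_left_cancel (h1.trans (mul_assoc x y x))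
      rw [h2]; simp
    obtain ⟨z, hz, hz2, hxz, hyz, hxyz⟩ := hind x hx y hy
    obtain ⟨v, hv, c, hc, hxx⟩ := hsqQ x hx
    have hcx : (x * x)⁻¹ * c ∈ W₀ := by
      refine ⟨v⁻¹, inv_mem hv, 1, one_mem _, ?_⟩
      rw [hxx, mul_inv_rev, mul_one, mul_one, mul_assoc, mem_center_iff.1 hc v⁻¹,
        inv_mul_cancel_left]
    have k1 := hkey x hx y hy hx2 hy2 hxy2 c hc hcx
    have k2 := hkey x hx z hz hx2 hz2 hxz c hc hcx
    have k3 := hkey x hx (y * z) (mul_mem hy hz) hx2 hyz hxyz c hc hcx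
    have e : x * (y * z) * x⁻¹ * (y * z)⁻¹ = x * y * x⁻¹ * y⁻¹ * (x * z * x⁻¹ * z⁻¹) := by
      calc x * (y * z) * x⁻¹ * (y * z)⁻¹
          = x * y * x⁻¹ * y⁻¹ * (y * (x * z * x⁻¹ * z⁻¹) * y⁻¹) := by group
        _ = _ := by
            rw [← hcomQ x hx z hz y hy]
            group
    rw [e] at k3
    have cc := mem_center_iff.1 hc (x * z * x⁻¹ * z⁻¹)
    have k4 : x * y * x⁻¹ * y⁻¹ * c * (x * z * x⁻¹ * z⁻¹ * c) *
        (x * y * x⁻¹ * y⁻¹ * (x * z * x⁻¹ * z⁻¹) * c)⁻¹ ∈ W₀ :=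
      mul_mem (mul_mem k1 k2) (inv_mem k3)
    rw [show x * y * x⁻¹ * y⁻¹ * c * (x * z * x⁻¹ * z⁻¹ * c) *
        (x * y * x⁻¹ * y⁻¹ * (x * z * x⁻¹ * z⁻¹) * c)⁻¹ = c by
      rw [cc]
      calc _ = x * y * x⁻¹ * y⁻¹ * c * (c * (x * z * x⁻¹ * z⁻¹)) * c⁻¹ *
            (x * z * x⁻¹ * z⁻¹)⁻¹ * (x * y * x⁻¹ * y⁻¹)⁻¹ := by group
        _ = x * y * x⁻¹ * y⁻¹ * c * ((x * z * x⁻¹ * z⁻¹) * c) * c⁻¹ *
            (x * z * x⁻¹ * z⁻¹)⁻¹ * (x * y * x⁻¹ * y⁻¹)⁻¹ := by rw [cc]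
        _ = x * y * x⁻¹ * y⁻¹ * c * (x * y * x⁻¹ * y⁻¹)⁻¹ := by group
        _ = c := by rw [mem_center_iff.1 hc (x * y * x⁻¹ * y⁻¹)]; group] at k4
    simpa using mul_mem k1 (inv_mem k4)
  -- transfer
  rw [eq_bot_iff_forall]
  intro z hz
  haveI : Group.IsPerfect ↥L := hL.1.2.1
  have hQi : Odd Q.index := by
    rw [hQ, index_comap_of_surjective _ (QuotientGroup.mk'_surjective _)]
    exact Nat.not_even_iff_odd.1 fun he => P.not_dvd_index he.two_dvd
  have hQp : ∀ x ∈ Q, ∃ k : ℕ, x ^ 2 ^ k = 1 := fun x hx => by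
    obtain ⟨k, hk⟩ := T.isPGroup' ⟨_, (hQT x).1 hx⟩
    exact ⟨k, Subtype.ext (by simpa using congrArg Subtype.val hk)⟩
  -- `Z = Z²`
  have hsquare : ∀ y ∈ center ↥L, y ∈ W₀ → ∃ w ∈ center ↥L, y = w * w := by
    rintro y hy ⟨v, hv, w, hw, rfl⟩
    refine ⟨w, hw, ?_⟩
    have hvz : v ∈ center ↥L := by
      have := mul_mem hy (inv_mem (mul_mem hw hw))
      rwa [mul_inv_cancel_right] at this
    have : (v : H) = 1 := by
      have h6 : (v : H) ∈ V ⊓ centralizer (L : Set H) := ⟨hv, hZc v hvz⟩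
      rwa [hVC, mem_bot] at h6
    rw [show v = 1 from Subtype.ext this, one_mul]
  -- every central element is a power of a square, hence trivial
  have hall : ∀ y ∈ center ↥L, ∃ w ∈ center ↥L, y = w * w := by
    intro y hy
    have hyc : y ∈ commutator ↥L := by rw [Group.IsPerfect.commutator_eq_top]; exact mem_top y
    have h1 := Transfer.map_pow_index_eq_one (H := Q) Abelianization.of (z := ⟨y, hZQ y hy⟩) hy hyc
    rw [← map_pow] at h1
    have h2 : (⟨y, hZQ y hy⟩ : ↥Q) ^ Q.index ∈ commutator ↥Q := (QuotientGroup.eq_one_iff _).1 h1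
    have h3 : commutator ↥Q ≤ W₀.subgroupOf Q := by
      rw [_root_.commutator_def, commutator_le]
      intro a _ b _
      exact hcomW a a.2 b b.2
    have h4 : y ^ Q.index ∈ W₀ := by simpa [mem_subgroupOf] using h3 h2
    obtain ⟨k, hk⟩ := hQp y (hZQ y hy)
    obtain ⟨i, hi⟩ := exists_pow_eq_self_of_coprime ((Nat.coprime_two_right.2 hQi).pow_right k
      |>.coprime_dvd_right (orderOf_dvd_of_pow_eq_one hk))
    exact hsquare y hy (by rw [← hi]; exact pow_mem h4 i)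
  have hrep : ∀ n : ℕ, ∀ y ∈ center ↥L, ∃ w ∈ center ↥L, y = w ^ 2 ^ n := by
    intro n
    induction n with
    | zero => exact fun y hy => ⟨y, hy, by simp⟩
    | succ n ih =>
      intro y hy
      obtain ⟨w, hw, rfl⟩ := hall y hy
      obtain ⟨w', hw', rfl⟩ := ih w hw
      exact ⟨w', hw', by rw [← pow_two, ← pow_mul, pow_succ]⟩
  obtain ⟨n, hn⟩ : ∃ n : ℕ, ∀ w ∈ Q, w ^ 2 ^ n = 1 := by
    have hp : IsPGroup 2 ↥Q := fun x => by
      obtain ⟨k, hk⟩ := hQp x x.2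
      exact ⟨k, Subtype.ext (by simpa using hk)⟩
    obtain ⟨n, hn⟩ := hp.exists_card_eq
    exact ⟨n, fun w hw => orderOf_dvd_iff_pow_eq_one.1 (hn ▸ Q.orderOf_dvd_natCard hw)⟩
  obtain ⟨w, hw, rfl⟩ := hrep n z hz
  exact hn w (hZQ w hw)

/-- Piece KSec. -/
theorem ksec : KSecStmt.{u} :=
  ksec_of fun _ _ _ T A hK L hL hF => free_part T A hK L hL hF

end Cfsg.Agent.ThreePrime82
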