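import Cfsg.Agent.ThreePrime72.Defs
import Cfsg.Agent.ThreePrime82.Structure
import Cfsg.Agent.FGAmalgam30.Residual
import Mathlib.GroupTheory.FixedPointFree

/-!
# The structure around the moved components
-/

set_option autoImplicit false
set_option linter.style.haveILetI false

namespace Cfsg.Agent.ThreePrime82

open Subgroup
open Cfsg.Agent.ThreePrime72 (KHyp Moved SzSections IsSzU FreeOn KSecStmt)

universe u

variable {H : Type u} [Group H] [Finite H]

/-- The simple quotient of a component of a group with Suzuki sections. -/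
theorem component_iso_of_sec (hsec : SzSections H) {L : Subgroup H} (hL : Cfsg.IsComponent L) :
    Cfsg.Lie.IsoSuzuki (↥L ⧸ center ↥L) := by
  haveI : IsSimpleGroup (↥L ⧸ center ↥L) := hL.2.2
  refine hsec L (center ↥L) inferInstance ?_
  by_contra hc
  push Not at hc
  haveI hX : Group.IsSolvable (↥L ⧸ center ↥L) := Group.isSolvable_of_comm hc
  haveI : Group.IsSolvable (center ↥L) :=
    Group.isSolvable_of_comm fun a b => Subtype.ext (mem_center_iff.1 b.2 a)
  exact Components.component_not_isSolvable hL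
    (Group.isSolvable_of_ker_le_range (center ↥L).subtype (QuotientGroup.mk' (center ↥L)) (by simp))

/-- `O₂ · E` contains `A`, and its Sylow normalizer normalizes `A`. -/
theorem le_core_sup_layer {T : Sylow 2 H} {A : Subgroup H} (hK : KHyp T A) :
    A ≤ Cfsg.pCore 2 H ⊔ Cfsg.layer H := fun a ha => by
  obtain ⟨l, hl, hla⟩ := exists_layer_mul hK.core T hK.sc hK.elem
    (fun L hL => component_iso_of_sec hK.sec hL) ha
  rw [show a = l * (l⁻¹ * a) by group]
  exact mul_mem (mem_sup_right (Subgroup.mem_inf.1 hl).1) (mem_sup_left (Subgroup.mem_inf.1 hla).1)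

/-- The normalizer of `T ∩ Y`, for `Y` containing `A`, normalizes `A`. -/
theorem mem_normalizer_of_sylow_inf {T : Sylow 2 H} {A Y : Subgroup H} (hK : KHyp T A)
    (hAY : A ≤ Y) {g : H} (hg : g ∈ normalizer (((T : Subgroup H) ⊓ Y : Subgroup H) : Set H)) :
    g ∈ normalizer (A : Set H) :=
  LocalEven62.mem_normalizer_of_conj_mem fun a ha =>
    hK.sc.2 a ha g ((mem_normalizer_iff.1 hg a).1 ⟨hK.sc.1 ha, hAY ha⟩).1

/-- `H` is generated by `N(A)` and the moved components. -/
theorem closure_eq_top {T : Sylow 2 H} {A : Subgroup H} (hK : KHyp T A) :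
    closure ((normalizer (A : Set H) : Set H) ∪ ⋃ L ∈ {L : Subgroup H | Moved A L}, (L : Set H))
      = ⊤ := by
  haveI : Fact (Nat.Prime 2) := ⟨Nat.prime_two⟩
  set M₀ := closure ((normalizer (A : Set H) : Set H) ∪
    ⋃ L ∈ {L : Subgroup H | Moved A L}, (L : Set H)) with hM₀
  have hN : normalizer (A : Set H) ≤ M₀ := fun x hx => subset_closure (Or.inl hx)
  set Y : Subgroup H := Cfsg.pCore 2 H ⊔ Cfsg.layer H with hY
  have hAY : A ≤ Y := le_core_sup_layer hK
  have hTN : (T : Subgroup H) ≤ normalizer (A : Set H) := fun s hs =>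
    LocalEven62.mem_normalizer_of_conj_mem fun x hx =>
      hK.sc.2 x hx s (mul_mem (mul_mem hs (hK.sc.1 hx)) (inv_mem hs))
  have hYM : Y ≤ M₀ := by
    refine sup_le ((Thompson.pCore_le_sylow T).trans (hTN.trans hN))
      (Components.layer_le_iff.2 fun L hL => ?_)
    by_cases hm : A ≤ centralizer (L : Set H)
    · exact (le_centralizer_iff.1 hm).trans ((centralizer_le_normalizer _).trans hN)
    · exact fun x hx => subset_closure (Or.inr (Set.mem_biUnion ⟨hL, hm⟩ hx))
  haveI : Y.Normal := inferInstance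
  obtain ⟨P, hP⟩ := FGAmalgam30.exists_sylow_inf T Y
  have hfr := P.normalizer_sup_eq_top
  rw [eq_top_iff, ← hfr]
  refine sup_le (fun g hg => hN (mem_normalizer_of_sylow_inf hK hAY ?_)) hYM
  rwa [hP, map_subgroupOf_eq_of_le inf_le_right] at hg

/-- An odd subgroup normalized by `A` is centralized by `A`. -/
theorem odd_centralized {T : Sylow 2 H} {A : Subgroup H} (hK : KHyp T A) (Y : Subgroup H)
    (hYo : Odd (Nat.card ↥Y)) (hAY : A ≤ normalizer (Y : Set H)) :
    A ≤ centralizer (Y : Set H) := by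
  classical
  haveI : Fact (Nat.Prime 2) := ⟨Nat.prime_two⟩
  have hsq : ∀ x ∈ A, x * x = 1 := fun x hx => by rw [← pow_two]; exact hK.elem.2 x hx
  set Y2 : Subgroup H := Cfsg.pCore 2 H ⊔ Cfsg.layer H with hY2
  haveI hY2n : Y2.Normal := inferInstance
  have hAY2 : A ≤ Y2 := le_core_sup_layer hK
  have hQE : ∀ x ∈ Y2, ∃ q ∈ Cfsg.pCore 2 H, ∃ e ∈ Cfsg.layer H, q * e = x := fun x hx =>
    mem_sup_of_normal_left.1 hx
  have hEQ : Cfsg.layer H ≤ centralizer (Cfsg.pCore 2 H : Set H) :=
    Components.layer_le_centralizer_of_isSolvable _ (by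
      haveI := (Thompson.isPGroup_pCore (p := 2) (G := H)).isNilpotent
      infer_instance)
  have hodd : ∀ x ∈ Y, Odd (orderOf x) := fun x hx =>
    hYo.of_dvd_nat (Y.orderOf_dvd_natCard hx)
  -- an element of odd order of `O₂ E` centralizing the layer is trivial
  have hcent : ∀ x ∈ Y2, Odd (orderOf x) →
      (∀ L : Subgroup H, Cfsg.IsComponent L → x ∈ centralizer (L : Set H)) → x = 1 := by
    intro x hx ho hc
    have hxl : ∀ y ∈ Cfsg.layer H, y * x = x * y := fun y hy => by
      have : Cfsg.layer H ≤ centralizer ({x} : Set H) := Components.layer_le_iff.2 fun L hL z hz =>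
        mem_centralizer_singleton_iff.2 (mem_centralizer_iff.1 (hc L hL) z hz)
      exact mem_centralizer_singleton_iff.1 (this hy)
    obtain ⟨q, hq, e, he, rfl⟩ := hQE x hx
    have he2 : e ∈ Cfsg.pCore 2 H := by
      refine Components.map_center_layer_le_pCore hK.core ⟨⟨e, he⟩, ?_, rfl⟩
      rw [SetLike.mem_coe, mem_center_iff]
      rintro ⟨y, hy⟩
      refine Subtype.ext ?_
      show y * e = e * y
      have h1 := hxl y hy
      have h2 : q * y = y * q := mem_centralizer_iff.1 (hEQ hy) q hq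
      calc y * e = q⁻¹ * (q * y) * e := by group
        _ = q⁻¹ * (y * (q * e)) := by rw [h2]; group
        _ = q⁻¹ * ((q * e) * y) := by rw [h1]
        _ = e * y := by group
    obtain ⟨k, hk⟩ := Thompson.isPGroup_pCore (p := 2) (G := H) ⟨_, mul_mem hq he2⟩
    exact orderOf_eq_one_iff.1 (Nat.eq_one_of_dvd_coprimes
      ((Nat.coprime_two_right.2 ho).pow_right k) dvd_rfl
      (orderOf_dvd_of_pow_eq_one (by simpa using congrArg Subtype.val hk)))
  -- `A` centralizes `Y ⊓ Y2` modulo the centralizer of each component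
  have hcomp : ∀ j ∈ Y, j ∈ Y2 → ∀ a ∈ A, ∀ L : Subgroup H, Cfsg.IsComponent L →
      j * a * j⁻¹ * a⁻¹ ∈ centralizer (L : Set H) := by
    intro j hj hj2 a ha L hL
    set C : Subgroup H := centralizer (L : Set H) with hC
    have hjN : ∀ x ∈ Y2, x ∈ normalizer (L : Set H) := by
      intro x hx
      obtain ⟨q, hq, e, he, rfl⟩ := hQE x hx
      exact mul_mem (centralizer_le_normalizer _ (mem_centralizer_iff.2 fun y hy =>
          (mem_centralizer_iff.1 (hEQ (Components.component_le_layer hL hy)) q hq).symm))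
        (Components.layer_le_normalizer hL he)
    have hCn : ∀ x ∈ normalizer (L : Set H), x ∈ normalizer (C : Set H) := fun x hx =>
      LocalEven62.normalizer_le_normalizer_centralizer L hx
    by_cases hm : A ≤ C
    · exact C.mul_mem ((mem_normalizer_iff.1 (hCn j (hjN j hj2)) a).1 (hm ha)) (C.inv_mem (hm ha))
    -- a moved component centralizes `Y ⊓ Y2`
    suffices hjc : j ∈ C by
      have haC := hCn a (hjN a (hAY2 ha))
      rw [show j * a * j⁻¹ * a⁻¹ = j * (a * j⁻¹ * a⁻¹) by group]
      exact C.mul_mem hjc ((mem_normalizer_iff.1 haC _).1 (C.inv_mem hjc))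
    obtain ⟨h, V, f, -, -, -, hVAL, -, hf, hcard, hVC, -⟩ :=
      component_torus hK.core T hK.sc hK.elem hL (component_iso_of_sec hK.sec hL) hm
    have hBal := balData_of_isoSuzuki (component_iso_of_sec hK.sec hL)
    set N : Subgroup H := normalizer (L : Set H) with hN
    set J : Subgroup H := Y ⊓ Y2 with hJ
    have hVN : ∀ v ∈ V, v ∈ normalizer (J : Set H) := fun v hv => by
      rw [hJ]
      exact LocalEven62.le_normalizer_inf (L := V) (fun x hx => hAY (hVAL hx).1)
        (fun x hx => by rw [normalizer_eq_top]; trivial) hv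
    -- conjugation by elements of `N` on `L ⧸ Z(L)`
    let σ : ↥N →* MulAut ↥L :=
      { toFun := fun x =>
          { toFun := fun y => ⟨x * y * (x : H)⁻¹, (mem_normalizer_iff.1 x.2 y).1 y.2⟩
            invFun := fun y => ⟨(x : H)⁻¹ * y * x, (mem_normalizer_iff.1 x.2 _).2 (by
              simp [mul_assoc])⟩
            left_inv := fun y => Subtype.ext (by simp [mul_assoc])
            right_inv := fun y => Subtype.ext (by simp [mul_assoc])
            map_mul' := fun y z => Subtype.ext (by simp [mul_assoc]) }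
        map_one' := MulEquiv.ext fun y => Subtype.ext (by simp)
        map_mul' := fun x y => MulEquiv.ext fun z => Subtype.ext (by simp [mul_assoc]) }
    let Φ : ↥N →* MulAut (↥L ⧸ center ↥L) :=
      { toFun := fun x => QuotientGroup.congr (center ↥L) (center ↥L) (σ x)
          (Subgroup.characteristic_iff_map_eq.1 inferInstance (σ x))
        map_one' := MulEquiv.ext fun z => by
          induction z using QuotientGroup.induction_on with
          | H g => simp
        map_mul' := fun x y => MulEquiv.ext fun z => by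
          induction z using QuotientGroup.induction_on with
          | H g =>
            show QuotientGroup.mk' (center ↥L) (σ (x * y) g) =
              QuotientGroup.mk' (center ↥L) (σ x (σ y g))
            rw [map_mul]
            rfl }
    have hΦπ : ∀ (x : ↥N) (y : ↥L), Φ x (QuotientGroup.mk' (center ↥L) y) =
        QuotientGroup.mk' (center ↥L) (σ x y) := fun x y => rfl
    have hker : ∀ x : ↥N, Φ x = 1 → (x : H) ∈ C := by
      intro x hx
      refine Components.mem_centralizer_of_commutator_mem_centralizer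
        (Components.component_commutator_eq_self hL) x.2 fun l hl => ?_
      have h1 := DFunLike.congr_fun hx (QuotientGroup.mk' (center ↥L) ⟨l, hl⟩)
      rw [hΦπ, MulAut.one_apply] at h1
      have h3 : σ x ⟨l, hl⟩ * (⟨l, hl⟩ : ↥L)⁻¹ ∈ center ↥L := by
        rw [← QuotientGroup.eq_one_iff]
        show QuotientGroup.mk' (center ↥L) _ = 1
        rw [map_mul, map_inv, h1, mul_inv_cancel]
      rw [mem_centralizer_iff]
      intro z hz
      exact congrArg Subtype.val (mem_center_iff.1 h3 ⟨z, hz⟩)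
    set D : Subgroup (MulAut (↥L ⧸ center ↥L)) := (J.subgroupOf N).map Φ with hD
    have hDo : ∀ d ∈ D, Odd (orderOf d) := by
      rintro _ ⟨x, hx, rfl⟩
      refine Odd.of_dvd_nat ?_ (orderOf_map_dvd Φ x)
      rw [← Subgroup.orderOf_coe]
      exact hodd _ (Subgroup.mem_inf.1 hx).1
    have hVimg : ∀ (v : H) (hv : v ∈ V), Φ ⟨v, hjN v (hAY2 (hVAL hv).1)⟩ =
        MulAut.conj (QuotientGroup.mk' (center ↥L) ⟨v, (hVAL hv).2⟩) := by
      intro v hv
      refine MulEquiv.ext fun z => ?_
      obtain ⟨y, rfl⟩ := QuotientGroup.mk'_surjective (center ↥L) z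
      rw [hΦπ, MulAut.conj_apply, ← map_mul, ← map_inv, ← map_mul]
      rfl
    -- every involution of `V` inverts `D`
    have hinv : ∀ (v : H) (hv : v ∈ V), v ≠ 1 → ∀ d ∈ D,
        MulAut.conj (QuotientGroup.mk' (center ↥L) ⟨v, (hVAL hv).2⟩) * d *
          (MulAut.conj (QuotientGroup.mk' (center ↥L) ⟨v, (hVAL hv).2⟩))⁻¹ = d⁻¹ := by
      intro v hv hv1 d hd
      set g := QuotientGroup.mk' (center ↥L) ⟨v, (hVAL hv).2⟩ with hg
      have hg2 : orderOf g = 2 := by
        refine orderOf_eq_prime ?_ fun e => hv1 ?_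
        · rw [hg, ← map_pow, show (⟨v, (hVAL hv).2⟩ : ↥L) ^ 2 = 1 from
            Subtype.ext (hK.elem.2 v (hVAL hv).1), map_one]
        · have h1 : v ∈ V ⊓ centralizer (L : Set H) := by
            refine ⟨hv, mem_centralizer_iff.2 fun z hz => ?_⟩
            exact congrArg Subtype.val
              (mem_center_iff.1 ((QuotientGroup.eq_one_iff _).1 e) ⟨z, hz⟩)
          rwa [hVC, mem_bot] at h1
      have hmap : ∀ d ∈ D, MulAut.conj g * d * (MulAut.conj g)⁻¹ ∈ D := by
        rintro _ ⟨x, hx, rfl⟩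
        refine ⟨⟨v, hjN v (hAY2 (hVAL hv).1)⟩ * x * ⟨v, hjN v (hAY2 (hVAL hv).1)⟩⁻¹,
          (mem_normalizer_iff.1 (hVN v hv) _).1 hx, ?_⟩
        rw [map_mul, map_mul, map_inv, hVimg v hv]
      let φ : ↥D →* ↥D :=
        (((MulAut.conj (MulAut.conj g)).toMonoidHom).comp D.subtype).codRestrict D
          fun d => hmap d d.2
      have hfpf : MonoidHom.FixedPointFree φ := by
        intro d hd
        have h1 : MulAut.conj g * (d : MulAut _) = (d : MulAut _) * MulAut.conj g :=
          mul_inv_eq_iff_eq_mul.1 (congrArg Subtype.val hd)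
        obtain ⟨x, hx, hxd⟩ := d.2
        -- `d` is inner
        obtain ⟨q, hq, e, he, hqe⟩ := hQE (x : H) (Subgroup.mem_inf.1 hx).2
        obtain ⟨c, hc⟩ : ∃ c : ↥L ⧸ center ↥L, (d : MulAut _) = MulAut.conj c := by
          have hinn : ∀ z ∈ Cfsg.layer H, ∀ hz : z ∈ N, ∃ c, Φ ⟨z, hz⟩ = MulAut.conj c := by
            intro z hz
            let I : Subgroup H :=
              (((MulAut.conj : ↥L ⧸ center ↥L →* _).range).comap Φ).map N.subtype
            have hI : Cfsg.layer H ≤ I := by
              refine Components.layer_le_iff.2 fun L' hL' z hz => ?_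
              have hzN : z ∈ N :=
                Components.layer_le_normalizer hL (Components.component_le_layer hL' hz)
              refine ⟨⟨z, hzN⟩, ?_, rfl⟩
              by_cases hLL : L' = L
              · subst hLL
                refine ⟨QuotientGroup.mk' _ ⟨z, hz⟩, MulEquiv.ext fun y => ?_⟩
                obtain ⟨y, rfl⟩ := QuotientGroup.mk'_surjective (center ↥L') y
                rw [hΦπ, MulAut.conj_apply, ← map_mul, ← map_inv, ← map_mul]
                rfl
              · refine ⟨1, ?_⟩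
                rw [map_one]
                refine (MulEquiv.ext fun y => ?_).symm
                obtain ⟨y, rfl⟩ := QuotientGroup.mk'_surjective (center ↥L) y
                rw [hΦπ, MulAut.one_apply]
                refine congrArg _ (Subtype.ext ?_)
                show z * y * z⁻¹ = y
                rw [← mem_centralizer_iff.1 (Components.component_le_centralizer hL' hL hLL hz)
                  (y : H) y.2, mul_inv_cancel_right]
            obtain ⟨z', ⟨c, hc⟩, rfl⟩ := hI hz
            exact fun hz => ⟨c, hc.symm⟩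
          obtain ⟨c, hc⟩ := hinn e he (Components.layer_le_normalizer hL he)
          refine ⟨c, ?_⟩
          rw [← hxd, ← hc]
          have hqN : q ∈ N := hjN q (mem_sup_left hq)
          rw [show x = ⟨q, hqN⟩ * ⟨e, Components.layer_le_normalizer hL he⟩ from
            Subtype.ext hqe.symm, map_mul]
          have : Φ ⟨q, hqN⟩ = 1 := MulEquiv.ext fun y => by
            obtain ⟨y, rfl⟩ := QuotientGroup.mk'_surjective (center ↥L) y
            rw [hΦπ, MulAut.one_apply]
            refine congrArg _ (Subtype.ext ?_)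
            show q * y * q⁻¹ = y
            rw [mem_centralizer_iff.1 (hEQ (Components.component_le_layer hL y.2)) q hq,
              mul_inv_cancel_right]
          rw [this, one_mul]
        have hinjc : Function.Injective (MulAut.conj : ↥L ⧸ center ↥L →* _) := by
          rw [injective_iff_map_eq_one]
          intro z hz
          have : z ∈ center (↥L ⧸ center ↥L) := mem_center_iff.2 fun y => by
            have h2 := DFunLike.congr_fun hz y
            rw [MulAut.conj_apply, MulAut.one_apply, mul_inv_eq_iff_eq_mul] at h2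
            exact h2.symm
          rwa [hBal.center, mem_bot] at this
        rw [hc, ← map_mul, ← map_mul] at h1
        have hcg : c ∈ centralizer ({g} : Set (↥L ⧸ center ↥L)) :=
          mem_centralizer_singleton_iff.2 (hinjc h1).symm
        obtain ⟨k, hk⟩ := hBal.two g hg2 ⟨c, hcg⟩
        have hp : (d : MulAut (↥L ⧸ center ↥L)) ^ 2 ^ k = 1 := by
          rw [hc, ← map_pow, show c ^ 2 ^ k = 1 by simpa using congrArg Subtype.val hk, map_one]
        have h2 : (d : MulAut (↥L ⧸ center ↥L)) = 1 := orderOf_eq_one_iff.1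
          (Nat.eq_one_of_dvd_coprimes ((Nat.coprime_two_right.2 (hDo d d.2)).pow_right k) dvd_rfl
            (orderOf_dvd_of_pow_eq_one hp))
        exact Subtype.ext h2
      have hφ2 : φ^[2] = _root_.id := funext fun d => Subtype.ext (by
        show MulAut.conj g * (MulAut.conj g * (d : MulAut (↥L ⧸ center ↥L)) * (MulAut.conj g)⁻¹) *
          (MulAut.conj g)⁻¹ = (d : MulAut (↥L ⧸ center ↥L))
        have : MulAut.conj g * MulAut.conj g = 1 := by
          rw [← map_mul, ← pow_two, ← hg2, pow_orderOf_eq_one, map_one]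
        calc _ = (MulAut.conj g * MulAut.conj g) * (d : MulAut (↥L ⧸ center ↥L)) *
              (MulAut.conj g * MulAut.conj g)⁻¹ := by group
          _ = (d : MulAut (↥L ⧸ center ↥L)) := by rw [this]; group)
      exact congrArg Subtype.val (congrFun (hfpf.coe_eq_inv_of_sq_eq_one hφ2) ⟨d, hd⟩)
    -- two of them
    have hV3 : ∃ u v : H, u ∈ V ∧ v ∈ V ∧ u ≠ 1 ∧ v ≠ 1 ∧ u * v ≠ 1 := by
      have h8 : 8 ≤ Nat.card ↥V := hcard ▸
        le_trans (by norm_num) (Nat.pow_le_pow_right (show 1 ≤ 2 by norm_num) hf)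
      haveI : Nontrivial ↥V := Finite.one_lt_card_iff_nontrivial.1 (by omega)
      obtain ⟨u, hu⟩ := exists_ne (1 : ↥V)
      letI := Fintype.ofFinite ↥V
      obtain ⟨v, hv⟩ := Finset.exists_mem_notMem_of_card_lt_card (s := ({1, u} : Finset ↥V))
        (t := Finset.univ) (by
          rw [Finset.card_univ, ← Nat.card_eq_fintype_card]
          exact lt_of_le_of_lt Finset.card_le_two (by omega))
      simp only [Finset.mem_insert, Finset.mem_singleton, not_or] at hv
      refine ⟨u, v, u.2, v.2, fun e => hu (Subtype.ext e), fun e => hv.2.1 (Subtype.ext e),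
        fun e => hv.2.2 (Subtype.ext ?_)⟩
      rw [eq_inv_of_mul_eq_one_right e, inv_eq_of_mul_eq_one_right (hsq _ (hVAL u.2).1)]
    obtain ⟨u, v, hu, hv, hu1, hv1, huv⟩ := hV3
    have hjN' : (⟨j, hjN j hj2⟩ : ↥N) ∈ J.subgroupOf N := ⟨hj, hj2⟩
    set d := Φ ⟨j, hjN j hj2⟩ with hd
    have hdD : d ∈ D := ⟨_, hjN', rfl⟩
    have e1 := hinv (u * v) (mul_mem hu hv) huv d hdD
    rw [show (⟨u * v, (hVAL (mul_mem hu hv)).2⟩ : ↥L) = ⟨u, (hVAL hu).2⟩ * ⟨v, (hVAL hv).2⟩ from
      rfl, map_mul, map_mul] at e1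
    have e2 := hinv v hv hv1 d hdD
    have e3 := hinv u hu hu1 d⁻¹ (inv_mem hdD)
    rw [inv_inv] at e3
    have e4 : d = d⁻¹ := by
      rw [← e1]
      conv_lhs => rw [← e3, ← e2]
      group
    refine hker _ (orderOf_eq_one_iff.1 (Nat.eq_one_of_dvd_coprimes
      (Nat.coprime_two_right.2 (hDo d hdD)) dvd_rfl (orderOf_dvd_of_pow_eq_one ?_)))
    rw [pow_two]
    show d * d = 1
    nth_rw 2 [e4]
    exact mul_inv_cancel d
  intro a ha
  rw [mem_centralizer_iff]
  intro y hy
  -- the commutator
  obtain ⟨j, hjdef⟩ : ∃ j, y * a * y⁻¹ * a⁻¹ = j := ⟨_, rfl⟩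
  have hjY : j ∈ Y := by
    rw [← hjdef, show y * a * y⁻¹ * a⁻¹ = y * (a * y⁻¹ * a⁻¹) by group]
    exact mul_mem hy ((mem_normalizer_iff.1 (hAY ha) _).1 (inv_mem hy))
  have hjY2 : j ∈ Y2 := by
    rw [← hjdef]
    exact mul_mem (hY2n.conj_mem a (hAY2 ha) y) (inv_mem (hAY2 ha))
  obtain ⟨m, hmdef⟩ : ∃ m, j * a * j⁻¹ * a⁻¹ = m := ⟨_, rfl⟩
  have hm1 : m = 1 := by
    refine hcent m (hmdef ▸ mul_mem (hY2n.conj_mem a (hAY2 ha) j) (inv_mem (hAY2 ha)))
      (hodd m ?_) fun L hL => hmdef ▸ hcomp j hjY hjY2 a ha L hL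
    rw [← hmdef, show j * a * j⁻¹ * a⁻¹ = j * (a * j⁻¹ * a⁻¹) by group]
    exact mul_mem hjY ((mem_normalizer_iff.1 (hAY ha) _).1 (inv_mem hjY))
  have hja : j * a = a * j := mul_inv_eq_iff_eq_mul.1 (mul_inv_eq_one.1 (hmdef.trans hm1))
  have hj2 : j ^ 2 = 1 := by
    have e : y * a * y⁻¹ = j * a := by rw [← hjdef]; group
    calc j ^ 2 = j * (j * (a * a)) := by rw [hsq a ha, mul_one, pow_two]
      _ = j * ((j * a) * a) := by rw [mul_assoc]
      _ = j * (a * j * a) := by rw [hja]
      _ = (j * a) * (j * a) := by group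
      _ = y * (a * a) * y⁻¹ := by rw [← e]; group
      _ = 1 := by rw [hsq a ha]; group
  have hj1 : j = 1 := orderOf_eq_one_iff.1 (Nat.eq_one_of_dvd_coprimes
    (Nat.coprime_two_right.2 (hodd j hjY)) dvd_rfl (orderOf_dvd_of_pow_eq_one hj2))
  rw [hj1] at hjdef
  exact mul_inv_eq_iff_eq_mul.1 (mul_inv_eq_one.1 hjdef)

/-- KSec, given the statement for a free action. -/
theorem ksec_of (hfree : ∀ (H : Type u) [Group H] [Finite H] (T : Sylow 2 H) (A : Subgroup H),
    KHyp T A → ∀ L : Subgroup H, Moved A L → FreeOn A → center ↥L = ⊥ ∧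
      ∀ p ∈ L, p ∈ (T : Subgroup H) → p ∈ centralizer (A : Set H)) : KSecStmt.{u} := by
  intro H _ _ T A hK
  haveI : Fact (Nat.Prime 2) := ⟨Nat.prime_two⟩
  refine ⟨fun L hL a ha => ?_, closure_eq_top hK, fun Y hY hAY => odd_centralized hK Y hY hAY,
    fun L hL => ?_⟩
  · obtain ⟨P, hP⟩ := exists_sylow_image hK.core T hL.1
    exact (component_data hK.core T hK.sc hK.elem hL.1 (component_iso_of_sec hK.sec hL.1) hP ha).1
  have hSz := component_iso_of_sec hK.sec hL.1
  obtain ⟨h, V, f, hhL, -, hhA, hVAL, hfo, hf, hcard, hVC, hdec, hhV, -, htr, P, -, himg⟩ :=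
    component_torus hK.core T hK.sc hK.elem hL.1 hSz hL.2
  refine ⟨V, f, hVAL, hfo, hf, hcard, ?_, ?_, ⟨hSz, P, himg⟩, fun x hx hx1 y hy hy1 => ?_,
    fun hF => hfree H T A hK L hL hF⟩
  · rw [eq_bot_iff_forall]
    intro x hx
    have h1 : x ∈ V ⊓ centralizer (L : Set H) := ⟨hx.1, hx.2.2⟩
    rwa [hVC, mem_bot] at h1
  · refine le_antisymm (sup_le (fun x hx => (hVAL hx).1) inf_le_left) fun a ha => ?_
    obtain ⟨v, hv, r, hr, rfl⟩ := hdec a ha
    exact mul_mem (mem_sup_left hv) (mem_sup_right hr)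
  · obtain ⟨j, hj⟩ := htr x hx y hy hx1 hy1
    exact ⟨h ^ j, pow_mem hhL j, pow_mem hhA j, pow_mem hhV j, hj⟩

end Cfsg.Agent.ThreePrime82
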