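import Cfsg.Prelude.Def_Balance
import Cfsg.Agent.KnownSimple.OutSuzuki.Main
import Cfsg.Agent.SzFacts.Sylow
import Cfsg.Agent.Lib.RankOne.SzBridge
import Cfsg.Agent.Lib.Thompson.Cores

/-!
# The Suzuki groups are locally balanced
-/

set_option autoImplicit false
set_option linter.style.haveILetI false

namespace Cfsg.Agent.ThreePrime82

open Subgroup
open Cfsg.Agent.Suzuki Cfsg.Agent.KnownSimple

/-- The automorphism properties giving local balance. -/
structure BalData (K : Type*) [Group K] : Prop where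
  center : Subgroup.center K = ⊥
  inner : ∀ α : MulAut K, α ^ 2 = 1 → ∃ g : K, α = MulAut.conj g
  two : ∀ g : K, orderOf g = 2 → IsPGroup 2 ↥(Subgroup.centralizer ({g} : Set K))
  fix : ∀ (g : K) (β : MulAut K), orderOf g = 2 → Odd (orderOf β) →
    (∀ c ∈ Subgroup.centralizer ({g} : Set K), β c = c) → β = 1

theorem BalData.congr {K K' : Type*} [Group K] [Group K'] (h : BalData K) (e : K ≃* K') :
    BalData K' := by
  refine ⟨?_, fun α hα => ?_, fun g hg => ?_, fun g β hg hβ hc => ?_⟩
  · rw [eq_bot_iff_forall]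
    intro z hz
    have h1 : e.symm z ∈ Subgroup.center K := by
      rw [mem_center_iff]
      intro w
      apply e.injective
      rw [map_mul, map_mul, e.apply_symm_apply]
      exact mem_center_iff.1 hz (e w)
    rw [h.center, mem_bot] at h1
    simpa using congrArg e h1
  · obtain ⟨g, hg⟩ := h.inner (MulAut.congr e.symm α) (by rw [← map_pow, hα, map_one])
    refine ⟨e g, MulEquiv.ext fun x => e.symm.injective ?_⟩
    have h1 := DFunLike.congr_fun hg (e.symm x)
    simp [MulAut.conj_apply] at h1 ⊢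
    exact h1
  · have hg' : orderOf (e.symm g) = 2 := by rw [MulEquiv.orderOf_eq]; exact hg
    refine (h.two _ hg').of_injective ((e.symm.toMonoidHom.comp
      (Subgroup.centralizer ({g} : Set K')).subtype).codRestrict _ fun c => ?_)
      fun a b hab => Subtype.ext (e.symm.injective (congrArg Subtype.val hab))
    rw [mem_centralizer_singleton_iff]
    show e.symm (c : K') * e.symm g = e.symm g * e.symm (c : K')
    rw [← map_mul, ← map_mul, mem_centralizer_singleton_iff.1 c.2]
  · have hg' : orderOf (e.symm g) = 2 := by rw [MulEquiv.orderOf_eq]; exact hg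
    have h1 := h.fix (e.symm g) (MulAut.congr e.symm β) hg' (by rw [MulEquiv.orderOf_eq]; exact hβ)
      fun c hc' => ?_
    · exact (MulAut.congr e.symm).injective (h1.trans (map_one _).symm)
    · have h2 : e c ∈ Subgroup.centralizer ({g} : Set K') := by
        rw [mem_centralizer_singleton_iff] at hc' ⊢
        apply e.symm.injective
        rw [map_mul, map_mul, e.symm_apply_apply]
        exact hc'
      show e.symm (β (e c)) = c
      rw [hc _ h2, e.symm_apply_apply]

/-- Criterion for local balance. -/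
theorem BalData.isLocallyBalanced {K : Type*} [Group K] [Finite K] (hK : BalData K) :
    Cfsg.IsLocallyBalanced K := by
  intro H hH x hx
  haveI : Fact (Nat.Prime 2) := ⟨Nat.prime_two⟩
  have hx2 : (x : MulAut K) ^ 2 = 1 := by
    have h : x ^ 2 = 1 := by rw [← hx]; exact pow_orderOf_eq_one x
    simpa using congrArg Subtype.val h
  obtain ⟨g, hg⟩ := hK.inner _ hx2
  have hg1 : g ≠ 1 := by
    rintro rfl
    have : x = 1 := Subtype.ext (by rw [hg, map_one]; rfl)
    rw [this, orderOf_one] at hx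
    omega
  have hinj : ∀ a b : K, MulAut.conj a = MulAut.conj b → a = b := by
    intro a b hab
    have : b⁻¹ * a ∈ Subgroup.center K := by
      rw [mem_center_iff]
      intro z
      have h1 := DFunLike.congr_fun hab z
      simp only [MulAut.conj_apply] at h1
      calc z * (b⁻¹ * a) = b⁻¹ * (b * z * b⁻¹) * a := by group
        _ = b⁻¹ * (a * z * a⁻¹) * a := by rw [h1]
        _ = b⁻¹ * a * z := by group
    rw [hK.center, mem_bot, inv_mul_eq_one] at this
    exact this.symm
  have hg2 : orderOf g = 2 := by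
    refine orderOf_eq_prime (hinj _ _ ?_) hg1
    rw [map_pow, ← hg, hx2, map_one]
  rw [eq_bot_iff_forall]
  intro y hy
  have hyC : y * x = x * y :=
    mem_centralizer_singleton_iff.1 (Subgroup.map_subtype_le _ hy)
  obtain ⟨y', hy', rfl⟩ := hy
  have hcop : ∀ z ∈ pPrimeCore 2 ↥(Subgroup.centralizer ({x} : Set ↥H)),
      Odd (orderOf z) := fun z hz => by
    have h1 := (pPrimeCore 2 ↥(Subgroup.centralizer ({x} : Set ↥H))).orderOf_dvd_natCard hz
    rw [Nat.odd_iff, ← Nat.two_dvd_ne_zero]
    exact fun h2 => Thompson.not_dvd_card_pPrimeCore (h2.trans h1)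
  set β : MulAut K := ((y' : ↥H) : MulAut K) with hβ
  have hβg : β g = g := by
    apply hinj
    have h1 : β * MulAut.conj g = MulAut.conj g * β := by
      rw [← hg]; exact congrArg Subtype.val hyC
    calc MulAut.conj (β g) = β * MulAut.conj g * β⁻¹ := by
          ext z; simp [MulAut.conj_apply]
      _ = MulAut.conj g := by rw [h1, mul_inv_cancel_right]
  have hfix : ∀ c ∈ Subgroup.centralizer ({g} : Set K), β c = c := by
    intro c hc
    have hcx : (⟨MulAut.conj c, hH ⟨c, rfl⟩⟩ : ↥H) ∈ Subgroup.centralizer ({x} : Set ↥H) := by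
      rw [mem_centralizer_singleton_iff]
      refine Subtype.ext ?_
      show MulAut.conj c * (x : MulAut K) = (x : MulAut K) * MulAut.conj c
      rw [hg, ← map_mul, ← map_mul, mem_centralizer_singleton_iff.1 hc]
    let cc : ↥(Subgroup.centralizer ({x} : Set ↥H)) := ⟨_, hcx⟩
    have hz : y' * (cc * y'⁻¹ * cc⁻¹) ∈ pPrimeCore 2 ↥(Subgroup.centralizer ({x} : Set ↥H)) :=
      mul_mem hy' ((inferInstance : (pPrimeCore 2 _).Normal).conj_mem _ (inv_mem hy') cc)
    have hval : ((((y' * (cc * y'⁻¹ * cc⁻¹) : ↥(Subgroup.centralizer ({x} : Set ↥H))) : ↥H)) :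
        MulAut K) = MulAut.conj (β c * c⁻¹) := by
      show β * (MulAut.conj c * β⁻¹ * (MulAut.conj c)⁻¹) = _
      ext z
      simp [MulAut.conj_apply, mul_assoc]
    have hmem : β c * c⁻¹ ∈ Subgroup.centralizer ({g} : Set K) := by
      refine mul_mem ?_ (inv_mem hc)
      rw [mem_centralizer_singleton_iff]
      conv_lhs => rw [← hβg]
      conv_rhs => rw [← hβg]
      rw [← map_mul, ← map_mul, mem_centralizer_singleton_iff.1 hc]
    obtain ⟨k, hk⟩ := hK.two g hg2 ⟨_, hmem⟩
    have h1 : orderOf (y' * (cc * y'⁻¹ * cc⁻¹)) ∣ 2 ^ k := by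
      refine orderOf_dvd_of_pow_eq_one (Subtype.ext (Subtype.ext ?_))
      rw [SubgroupClass.coe_pow, SubgroupClass.coe_pow, hval, ← map_pow,
        show (β c * c⁻¹) ^ 2 ^ k = 1 by simpa using congrArg Subtype.val hk, map_one]
      rfl
    have h2 : y' * (cc * y'⁻¹ * cc⁻¹) = 1 := orderOf_eq_one_iff.1
      (Nat.eq_one_of_dvd_coprimes ((Nat.coprime_two_right.2 (hcop _ hz)).pow_right k)
        dvd_rfl h1)
    rw [h2] at hval
    exact mul_inv_eq_one.1 (hinj _ _ (hval.symm.trans (map_one MulAut.conj).symm))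
  have hord : Odd (orderOf β) := by
    have h1 : orderOf β = orderOf y' := by rw [hβ, Subgroup.orderOf_coe, Subgroup.orderOf_coe]
    rw [h1]; exact hcop _ hy'
  have := hK.fix g β hg2 hord hfix
  exact Subtype.ext this

section Sz

variable {F : Type*} [Field F] [Fintype F] {m : ℕ} (hF : Fintype.card F = 2 ^ (2 * m + 1))
include hF

theorem balData_sz (hm : 1 ≤ m) : BalData (Cfsg.Sz F m) := by
  classical
  haveI : Fact (Nat.Prime 2) := ⟨Nat.prime_two⟩
  have hcU : ∀ g : Cfsg.Sz F m, orderOf g = 2 → ∃ h a b, g = h * U hF a b * h⁻¹ := by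
    intro g hg
    obtain ⟨P, hP⟩ := (IsPGroup.of_card (n := 1) (show Nat.card (zpowers g) = 2 ^ 1 by
      rw [Nat.card_zpowers, hg, pow_one]) : IsPGroup 2 (zpowers g)).exists_le_sylow
    obtain ⟨h, hh⟩ := SzFacts.sylow_eq_map hF hm P
    obtain ⟨a, b, e⟩ := (SzFacts.mem_map_conj_USub hF).1 (hh ▸ hP (mem_zpowers g))
    exact ⟨h, a, b, e⟩
  refine ⟨?_, fun α hα => ?_, fun g hg => ?_, fun g β hg hβ hc => ?_⟩
  · haveI := Suzuki.isSimpleGroup hF hm
    refine (inferInstance : (center (Cfsg.Sz F m)).Normal).eq_bot_or_eq_top.resolve_right fun h => ?_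
    have h1 : (U hF 1 0 : Cfsg.Sz F m) * T hF (-1) = T hF (-1) * U hF 1 0 :=
      (mem_center_iff.1 (h ▸ mem_top (U hF 1 0)) _).symm
    have hcomm : ∀ a b : Cfsg.Sz F m, a * b = b * a := fun a b =>
      mem_center_iff.1 (h ▸ mem_top b) a
    have h2 := centralizer_U_le hF hm (a := (1 : F)) (b := 0)
      (fun e => one_ne_zero (α := F) (U_inj hF (e.trans (U_zero hF).symm)).1)
      (mem_centralizer_singleton_iff.2 (hcomm (W hF) _))
    obtain ⟨a, b, hab⟩ := h2
    exact pt_ne_inf (m := m) (0 : F) 0 (by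
      rw [← W_smul_inf hF, hab, U_smul_inf])
  · obtain ⟨g, τ, rfl⟩ := OutSz.exists_eq hF hm α
    set f := OutSz.fAut hF hm τ with hf
    have hτ2 : τ ^ 2 = 1 := by
      refine OutSz.eq_one_of_inner hF hm _ (g * f g)⁻¹ ?_
      rw [map_pow, ← hf, map_inv]
      refine inv_eq_of_mul_eq_one_right ?_
      rw [← hα]
      ext x
      simp [pow_two, MulAut.conj_apply, mul_assoc]
    have hcard : orderOf τ ∣ 2 * m + 1 := by
      rw [← CG26.card_fieldAut 2 (2 * m + 1) hF]
      exact orderOf_dvd_natCard τ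
    have hτ : τ = 1 := orderOf_eq_one_iff.1 (Nat.eq_one_of_dvd_coprimes
      (Nat.coprime_two_left.2 ⟨m, rfl⟩) (orderOf_dvd_of_pow_eq_one hτ2) hcard)
    exact ⟨g, by rw [hf, hτ, map_one, mul_one]⟩
  · obtain ⟨h, a, b, rfl⟩ := hcU g hg
    have h1 : U hF a b ≠ 1 := by
      intro e
      rw [e, mul_one, mul_inv_cancel, orderOf_one] at hg
      omega
    refine ((isPGroup_USub hF).map (MulAut.conj h).toMonoidHom).to_le fun c hc => ?_
    refine ⟨h⁻¹ * c * h, centralizer_U_le hF hm h1 ?_, by simp [MulAut.conj_apply, mul_assoc]⟩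
    rw [mem_centralizer_singleton_iff] at hc ⊢
    calc h⁻¹ * c * h * U hF a b = h⁻¹ * (c * (h * U hF a b * h⁻¹)) * h := by group
      _ = h⁻¹ * ((h * U hF a b * h⁻¹) * c) * h := by rw [hc]
      _ = U hF a b * (h⁻¹ * c * h) := by group
  · obtain ⟨h, a, b, rfl⟩ := hcU g hg
    have ha : a = 0 := by
      have h1 : U hF a b ^ 2 = 1 := by
        have h2 := pow_orderOf_eq_one (h * U hF a b * h⁻¹)
        rw [hg, conj_pow, conj_eq_one_iff] at h2
        exact h2
      rw [pow_two, OutSz.U_sq, ← U_zero hF] at h1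
      rcases mul_eq_zero.1 (U_inj hF h1).2 with e | e
      · exact sig_eq_zero.1 e
      · exact e
    subst ha
    -- `γ` fixes `USub` pointwise
    obtain ⟨γ, hγ⟩ : ∃ γ, MulAut.conj h⁻¹ * β * MulAut.conj h = γ := ⟨_, rfl⟩
    have hγU : ∀ c d, γ (U hF c d) = U hF c d := by
      intro c d
      have hcen : h * U hF c d * h⁻¹ ∈
          Subgroup.centralizer ({h * U hF 0 b * h⁻¹} : Set (Cfsg.Sz F m)) := by
        rw [mem_centralizer_singleton_iff]
        calc h * U hF c d * h⁻¹ * (h * U hF 0 b * h⁻¹) = h * (U hF c d * U hF 0 b) * h⁻¹ := by group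
          _ = h * (U hF 0 b * U hF c d) * h⁻¹ := by
              congr 2
              rw [U_mul, U_mul, sig_zero]
              congr 1
              · ring
              · ring
          _ = _ := by group
      have h2 := hc _ hcen
      rw [← hγ]
      show h⁻¹ * β (h * U hF c d * h⁻¹) * h⁻¹⁻¹ = U hF c d
      rw [h2]
      group
    obtain ⟨g', τ, hgτ⟩ := OutSz.exists_eq hF hm γ
    have h' : ∀ c d, g' * U hF (τ c) (τ d) * g'⁻¹ = U hF c d := fun c d => by
      have h3 := hγU c d
      rw [hgτ, MulAut.mul_apply, OutSz.fAut_U, MulAut.conj_apply] at h3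
      exact h3
    have hne : U hF (τ 1) (τ 0) ≠ 1 := fun e => by
      have := (U_inj hF (e.trans (U_zero hF).symm)).1
      simp at this
    have hg' := TI_U hF hm g' _ ⟨_, _, rfl⟩ hne ⟨_, _, h' 1 0⟩
    rw [normalizer_USub hF hm] at hg'
    obtain ⟨c, d, k, rfl⟩ := eq_U_T_of_fix hF hm g' hg'
    have hx : ∀ x : F, (k : F) * τ x = x := fun x => by
      have hh := h' x 0
      rw [map_zero, show U hF c d * T hF k * U hF (τ x) 0 * (U hF c d * T hF k)⁻¹ =
        U hF c d * (T hF k * U hF (τ x) 0 * (T hF k)⁻¹) * (U hF c d)⁻¹ by group, T_conj_U, U_inv,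
        U_mul, U_mul] at hh
      have := (U_inj hF hh).1
      linear_combination this - c * two_eq_zero hF
    have hk : k = 1 := Units.ext (by simpa using hx 1)
    have hτ : τ = 1 := RingEquiv.ext fun x => by
      have := hx x
      rwa [hk, Units.val_one, one_mul] at this
    rw [hk, T_one, mul_one, hτ, map_one, mul_one] at hgτ
    have hord : orderOf γ = orderOf β := by
      have e : (MulAut.conj h)⁻¹ * β * MulAut.conj h = MulAut.conj (MulAut.conj h)⁻¹ β := by
        rw [MulAut.conj_apply, inv_inv]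
      rw [← hγ, map_inv, e, MulEquiv.orderOf_eq]
    obtain ⟨j, hj⟩ := (isPGroup_USub hF) ⟨U hF c d, ⟨c, d, rfl⟩⟩
    have h4 : orderOf γ ∣ 2 ^ j := by
      refine orderOf_dvd_of_pow_eq_one ?_
      rw [hgτ, ← map_pow, show U hF c d ^ 2 ^ j = 1 by simpa using congrArg Subtype.val hj,
        map_one]
    have hγ1 : γ = 1 := orderOf_eq_one_iff.1 (Nat.eq_one_of_dvd_coprimes
      ((Nat.coprime_two_right.2 (hord ▸ hβ)).pow_right j) dvd_rfl h4)
    rw [hγ1, map_inv, mul_assoc, inv_mul_eq_one] at hγ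
    exact mul_eq_right.1 hγ.symm

end Sz

/-- Automorphism data of an abstract Suzuki group. -/
theorem balData_of_isoSuzuki {K : Type*} [Group K] (h : Cfsg.Lie.IsoSuzuki K) : BalData K := by
  obtain ⟨F, iF, iT, m, hm, hF, ⟨e⟩⟩ := h
  exact (balData_sz hF hm).congr (e.trans (RankOne.SzBridge.szEquiv hF hm).symm).symm

/-- The Suzuki groups are locally balanced. -/
theorem isLocallyBalanced_of_isoSuzuki {K : Type*} [Group K] [Finite K]
    (h : Cfsg.Lie.IsoSuzuki K) : Cfsg.IsLocallyBalanced K :=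
  (balData_of_isoSuzuki h).isLocallyBalanced

end Cfsg.Agent.ThreePrime82
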